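import Cfsg.Agent.Lib.Perm.LinDecomp.Reflect

/-!
# Overgroups of block-monomial groups with blocks of size at least two
-/

set_option autoImplicit false
set_option linter.all false

namespace CfsgLib.Perm.LinDecomp

open scoped Matrix
open Matrix Cfsg.Geo CfsgLib.Perm.Asch CfsgLib.Perm.Trans

variable {ι : Type} [Fintype ι] [DecidableEq ι] {F : Type*} [Field F] {β : Type} [Fintype β] [DecidableEq β]

/-- the coordinate subspace of a block -/
def bsub (blk : ι → β) (b : β) : Submodule F (ι → F) where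
  carrier := {x | ∀ k, blk k ≠ b → x k = 0}
  add_mem' := fun {x y} hx hy k hk => by rw [Pi.add_apply, hx k hk, hy k hk, add_zero]
  zero_mem' := fun k _ => rfl
  smul_mem' := fun c x hx k hk => by rw [Pi.smul_apply, hx k hk, smul_zero]

theorem mem_bsub {blk : ι → β} {b : β} {x : ι → F} : x ∈ bsub blk b ↔ ∀ k, blk k ≠ b → x k = 0 := Iff.rfl

theorem single_mem_bsub (blk : ι → β) (k : ι) (c : F) : (Pi.single k c : ι → F) ∈ bsub blk (blk k) :=
  fun l hl => Pi.single_eq_of_ne (fun e => hl (by rw [e])) _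

/-- `g` permutes the blocks -/
def BStab (blk : ι → β) (g : GL ι F) : Prop :=
  ∃ s : Equiv.Perm β, ∀ b, ∀ x ∈ bsub (F := F) blk b, (g : Matrix ι ι F) *ᵥ x ∈ bsub blk (s b)

/-- the part of a vector in a block -/
def bpart (blk : ι → β) (b : β) (x : ι → F) : ι → F := fun k => if blk k = b then x k else 0

theorem bpart_mem (blk : ι → β) (b : β) (x : ι → F) : bpart blk b x ∈ bsub blk b := fun k hk => if_neg hk

theorem bdot {blk : ι → β} {b : β} {χ : ι → F} (hχ : χ ∈ bsub blk b) (x : ι → F) :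
    χ ⬝ᵥ bpart blk b x = χ ⬝ᵥ x := by
  refine Finset.sum_congr rfl fun k _ => ?_
  show χ k * (if blk k = b then x k else 0) = χ k * x k
  split_ifs with h
  · rfl
  · rw [hχ k h, zero_mul, zero_mul]

theorem bdot_ne {blk : ι → β} {b b' : β} {χ x : ι → F} (hχ : χ ∈ bsub blk b) (hx : x ∈ bsub blk b') (h : b ≠ b') :
    χ ⬝ᵥ x = 0 := Finset.sum_eq_zero fun k _ => by
  by_cases hk : blk k = b
  · rw [hx k (fun e => h (hk.symm.trans e)), mul_zero]
  · rw [hχ k hk, zero_mul]

/-- functionals supported in a block -/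
theorem exists_bdual {blk : ι → β} {b : β} {W : Submodule F (ι → F)} (hW : W ≤ bsub blk b) {x : ι → F}
    (hxb : x ∈ bsub blk b) (hx : x ∉ W) :
    ∃ χ : ι → F, χ ∈ bsub blk b ∧ χ ⬝ᵥ x = 1 ∧ ∀ w ∈ W, χ ⬝ᵥ w = 0 := by
  obtain ⟨φ, hφx, hφW⟩ := exists_dual W hx
  have key : ∀ y ∈ bsub (F := F) blk b, bpart blk b φ ⬝ᵥ y = φ ⬝ᵥ y := fun y hy => by
    rw [dotProduct_comm, bdot hy, dotProduct_comm]
  exact ⟨bpart blk b φ, bpart_mem _ _ _, by rw [key x hxb, hφx], fun w hw => by rw [key w (hW hw), hφW w hw]⟩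

/-- the block transvections -/
theorem bstab_tv {blk : ι → β} {b : β} {u χ : ι → F} (hu : u ∈ bsub blk b) (hχ : χ ∈ bsub blk b)
    (h : χ ⬝ᵥ u = 0) : BStab blk (tv u χ h) := ⟨1, fun b' x hx => by
  rw [tv_mulVec, Equiv.Perm.one_apply]
  rcases eq_or_ne b b' with rfl | hne
  · exact Submodule.add_mem _ hx (Submodule.smul_mem _ _ hu)
  · rw [bdot_ne hχ hx hne, zero_smul, add_zero]; exact hx⟩

theorem bsub_le_iff {blk : ι → β} (g : GL ι F) (b b' : β)
    (h : ∀ k, blk k = b → (g : Matrix ι ι F) *ᵥ Pi.single k 1 ∈ bsub blk b') :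
    ∀ x ∈ bsub (F := F) blk b, (g : Matrix ι ι F) *ᵥ x ∈ bsub blk b' := by
  intro x hx
  rw [pi_eq_sum_univ' x, Matrix.mulVec_sum]
  refine Submodule.sum_mem _ fun k _ => ?_
  rw [Matrix.mulVec_smul]
  by_cases hk : blk k = b
  · exact Submodule.smul_mem _ _ (h k hk)
  · rw [hx k hk, zero_smul]; exact Submodule.zero_mem _

theorem bstab_mon {blk : ι → β} {σ : Equiv.Perm ι} {s : Equiv.Perm β} (d : ι → Fˣ)
    (h : ∀ k, blk (σ k) = s (blk k)) : BStab blk (mon σ d : GL ι F) := ⟨s, fun b => bsub_le_iff _ b _ fun k hk => by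
  rw [mon_mulVec_single, ← hk, ← h]
  exact single_mem_bsub blk _ _⟩

variable {m : ℕ}

/-- exchanging two blocks -/
theorem exists_block_swap (blk : ι → β) (hfib : ∀ b, (Finset.univ.filter fun k => blk k = b).card = m)
    (hm : 0 < m) {j j' : β} (hj : j ≠ j') :
    ∃ (σ : Equiv.Perm ι) (d : ι → Fˣ), (mon σ d : GL ι F) ∈ specialLinear ι F ∧
      (∀ k, blk (σ k) = Equiv.swap j j' (blk k)) ∧ (∀ k, blk k ≠ j' → d k = 1) ∧
      (∀ k, blk k ≠ j → blk k ≠ j' → σ k = k) ∧ ∀ k, σ (σ k) = k := by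
  classical
  set A : Finset ι := Finset.univ.filter fun k => blk k = j with hA
  set B : Finset ι := Finset.univ.filter fun k => blk k = j' with hB
  have e := Finset.equivOfCardEq ((hfib j).trans (hfib j').symm : A.card = B.card)
  have hAB : ∀ x, x ∈ A → x ∉ B := fun x hx hx' =>
    hj (((Finset.mem_filter.1 hx).2).symm.trans (Finset.mem_filter.1 hx').2)
  let f : ι → ι := fun x => if h : x ∈ A then (e ⟨x, h⟩ : ι) else if h : x ∈ B then (e.symm ⟨x, h⟩ : ι) else x
  have hf : Function.Involutive f := by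
    intro x
    by_cases h : x ∈ A
    · have h2 : (e ⟨x, h⟩ : ι) ∉ A := fun h' => hAB _ h' (e ⟨x, h⟩).2
      simp only [f, dif_pos h, dif_neg h2, dif_pos (e ⟨x, h⟩).2, Subtype.coe_eta, Equiv.symm_apply_apply]
    · by_cases h' : x ∈ B
      · simp only [f, dif_neg h, dif_pos h', Subtype.coe_eta, Equiv.apply_symm_apply]
        exact dif_pos (e.symm ⟨x, h'⟩).2
      · simp only [f, dif_neg h, dif_neg h']
  set σ : Equiv.Perm ι := hf.toPerm f with hσ
  obtain ⟨k₀, hk₀⟩ : B.Nonempty := Finset.card_pos.1 (by rw [hB, hfib]; exact hm)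
  set s : Fˣ := Units.map (Int.castRingHom F : ℤ →* F) (Equiv.Perm.sign σ) with hs
  refine ⟨σ, Function.update (fun _ => (1 : Fˣ)) k₀ s⁻¹, mon_mem_SL ?_, fun k => ?_, fun k hk => ?_, fun k h1 h2 => ?_, hf⟩
  · show (s : F) * _ = 1
    rw [← Units.coe_prod, Finset.prod_update_of_mem (Finset.mem_univ k₀), Finset.prod_const_one, mul_one,
      ← Units.val_mul, mul_inv_cancel, Units.val_one]
  · show blk (f k) = _
    by_cases h : k ∈ A
    · simp only [f, dif_pos h]
      rw [(Finset.mem_filter.1 h).2, Equiv.swap_apply_left]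
      exact (Finset.mem_filter.1 (e ⟨k, h⟩).2).2
    · by_cases h' : k ∈ B
      · simp only [f, dif_neg h, dif_pos h']
        rw [(Finset.mem_filter.1 h').2, Equiv.swap_apply_right]
        exact (Finset.mem_filter.1 (e.symm ⟨k, h'⟩).2).2
      · simp only [f, dif_neg h, dif_neg h']
        rw [Equiv.swap_apply_of_ne_of_ne (fun e => h (by simp [hA, e])) (fun e => h' (by simp [hB, e]))]
  · exact Function.update_of_ne (fun e => hk (by rw [e]; exact (Finset.mem_filter.1 hk₀).2)) _ _
  · show f k = k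
    simp only [f, dif_neg (fun h : k ∈ A => h1 (Finset.mem_filter.1 h).2),
      dif_neg (fun h : k ∈ B => h2 (Finset.mem_filter.1 h).2)]

variable {M : Subgroup (GL ι F)}

/-- a transvection leaving a block gives all -/
theorem fullSub_of_leaving (blk : ι → β) (hfib : ∀ b, (Finset.univ.filter fun k => blk k = b).card = m)
    (hm : 2 ≤ m) (hS : ∀ h ∈ specialLinear ι F, BStab blk h → h ∈ M) {i : β} {u φ : ι → F}
    (hu : u ∈ bsub blk i) (hu0 : u ≠ 0) (hφ : φ ∈ axes M u) {j : β} (hji : j ≠ i)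
    (hφj : ∃ k, blk k = j ∧ φ k ≠ 0) : fullSub M = ⊤ := by
  classical
  have hblock : ∀ {b : β} {v χ : ι → F}, v ∈ bsub blk b → χ ∈ bsub blk b → ∀ h : χ ⬝ᵥ v = 0, tv v χ h ∈ M :=
    fun hv hχ h => hS _ (tv_mem_SL _ _ _) (bstab_tv hv hχ h)
  have step : ∀ a χ : ι → F, a ∈ bsub blk j → χ ∈ bsub blk j → χ ⬝ᵥ a = 0 → φ ⬝ᵥ a ≠ 0 → χ ∈ axes M u := by
    intro a χ ha hχ h0 hne
    have h1 := axes_conj hφ (hblock ha hχ h0)
    rw [tv_mulVec, bdot_ne hχ hu hji, zero_smul, add_zero] at h1
    have h2 := (axes M u).smul_mem (φ ⬝ᵥ a)⁻¹ (Submodule.sub_mem _ hφ h1)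
    convert h2 using 1
    funext k
    rw [Pi.smul_apply, Pi.sub_apply, smul_eq_mul]
    have h3 : (φ ᵥ* (((tv a χ h0)⁻¹ : GL ι F) : Matrix ι ι F)) ⬝ᵥ Pi.single k 1 = φ k - χ k * (φ ⬝ᵥ a) := by
      rw [← dotProduct_mulVec, tv_inv_mulVec, dotProduct_sub, dotProduct_smul, dotProduct_single, dotProduct_single,
        mul_one, mul_one, smul_eq_mul]
    rw [dotProduct_single, mul_one] at h3
    rw [h3, sub_sub_cancel, mul_comm, mul_assoc, mul_inv_cancel₀ hne, mul_one]
  have hej : ∀ k, blk k = j → (Pi.single k 1 : ι → F) ∈ axes M u := by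
    intro k hk
    have hsk : (Pi.single k 1 : ι → F) ∈ bsub blk j := hk ▸ single_mem_bsub blk k 1
    by_cases h : ∃ k', blk k' = j ∧ k' ≠ k ∧ φ k' ≠ 0
    · obtain ⟨k', hk', hne, hk'0⟩ := h
      refine step (Pi.single k' 1) _ (hk' ▸ single_mem_bsub blk k' 1) hsk ?_ ?_
      · rw [dotProduct_single, Pi.single_eq_of_ne hne, zero_mul]
      · rw [dotProduct_single, mul_one]; exact hk'0
    · push Not at h
      obtain ⟨k₁, hk₁, hk₁0⟩ := hφj
      have hkk : k₁ = k := by_contra fun hne => hk₁0 (h k₁ hk₁ hne)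
      subst hkk
      obtain ⟨k', hk', hne⟩ := Finset.exists_mem_ne (s := Finset.univ.filter fun l => blk l = j) (by rw [hfib]; omega) k₁
      have hk'j : blk k' = j := (Finset.mem_filter.1 hk').2
      have hsk' : (Pi.single k' 1 : ι → F) ∈ bsub blk j := hk'j ▸ single_mem_bsub blk k' 1
      have h1 : (Pi.single k' 1 : ι → F) ∈ axes M u := by
        refine step _ _ hsk hsk' ?_ ?_
        · rw [dotProduct_single, Pi.single_eq_of_ne hne.symm, zero_mul]
        · rw [dotProduct_single, mul_one]; exact hk₁0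
      have h2 : (Pi.single k₁ 1 - Pi.single k' 1 : ι → F) ∈ axes M u := by
        refine step (Pi.single k₁ 1 + Pi.single k' 1) _ (Submodule.add_mem _ hsk hsk') (Submodule.sub_mem _ hsk hsk') ?_ ?_
        · rw [dotProduct_add, dotProduct_single, dotProduct_single, Pi.sub_apply, Pi.sub_apply, Pi.single_eq_same,
            Pi.single_eq_of_ne hne, Pi.single_eq_of_ne hne.symm, Pi.single_eq_same]
          ring
        · rw [dotProduct_add, dotProduct_single, dotProduct_single, h k' hk'j hne, mul_one, zero_mul, add_zero]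
          exact hk₁0
      simpa using Submodule.add_mem _ h2 h1
  have hall : ∀ k, blk k ≠ i → (Pi.single k 1 : ι → F) ∈ axes M u := by
    intro k hk
    rcases eq_or_ne (blk k) j with e | hne
    · exact hej k e
    obtain ⟨σ, d, hSL, hσ, hd, hfix, hinv⟩ := exists_block_swap (F := F) blk hfib (by omega) hne.symm
    have hj' : blk (σ k) = j := by rw [hσ, Equiv.swap_apply_right]
    have h1 := axes_conj (hej _ hj') (hS _ hSL (bstab_mon d hσ))
    rw [show ((mon σ d : GL ι F) : Matrix ι ι F) *ᵥ u = u from funext fun l => by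
      rw [mon_mulVec]
      by_cases hl : blk l = i
      · have hσl : σ l = l := hfix l (fun e => hji (e.symm.trans hl)) (fun e => hk (e.symm.trans hl))
        rw [(Equiv.symm_apply_eq σ).2 hσl.symm, hd l (fun e => hk (e.symm.trans hl)), Units.val_one, one_mul]
      · rw [hu l hl, hu _ (fun e => hl ?_), mul_zero]
        have h2 := hσ (σ.symm l)
        rw [Equiv.apply_symm_apply, e, Equiv.swap_apply_of_ne_of_ne hji.symm hk.symm] at h2
        exact h2] at h1
    convert h1 using 1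
    funext l
    rw [mon_vecMul_inv]
    have hs : σ.symm l = σ l := (Equiv.symm_apply_eq σ).2 (hinv l).symm
    rw [hs]
    by_cases hl : l = k
    · subst hl
      rw [Pi.single_eq_same, Pi.single_eq_same, hd _ (by rw [hj']; exact hne.symm), Units.val_one, inv_one, mul_one]
    · rw [Pi.single_eq_of_ne hl, Pi.single_eq_of_ne (fun e => hl (σ.injective e)), zero_mul]
  have hfull : FullC M u := by
    refine fullC_of_axes fun χ hχ => ?_
    have h1 : bpart blk i χ ∈ axes M u := fun c => by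
      have h0 : (c • bpart blk i χ) ⬝ᵥ u = 0 := by
        rw [smul_dotProduct, dotProduct_comm, bdot hu, dotProduct_comm, hχ, smul_zero]
      exact ⟨h0, hblock hu (Submodule.smul_mem _ _ (bpart_mem _ _ _)) h0⟩
    have h2 : χ - bpart blk i χ ∈ axes M u := by
      rw [pi_eq_sum_univ' (χ - bpart blk i χ)]
      refine Submodule.sum_mem _ fun k _ => ?_
      by_cases hk : blk k = i
      · rw [Pi.sub_apply, bpart, if_pos hk, sub_self, zero_smul]; exact Submodule.zero_mem _
      · exact Submodule.smul_mem _ _ (hall k hk)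
    simpa using Submodule.add_mem _ h2 h1
  have hVi : bsub blk i ≤ fullSub M := by
    intro w hw
    by_cases hwu : w ∈ Submodule.span F ({u} : Set (ι → F))
    · obtain ⟨c, rfl⟩ := Submodule.mem_span_singleton.1 hwu
      exact Submodule.smul_mem _ _ hfull
    have hu' : u ∉ Submodule.span F ({w - u} : Set (ι → F)) := by
      intro h
      obtain ⟨c, hc⟩ := Submodule.mem_span_singleton.1 h
      rcases eq_or_ne c 0 with rfl | hc0
      · exact hu0 (by rw [← hc, zero_smul])
      · refine hwu (Submodule.mem_span_singleton.2 ⟨c⁻¹ + 1, ?_⟩)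
        have : w - u = c⁻¹ • u := by rw [← inv_smul_smul₀ hc0 (w - u), hc]
        rw [add_smul, one_smul, ← this, sub_add_cancel]
    have hsub : Submodule.span F ({w - u} : Set (ι → F)) ≤ bsub blk i :=
      (Submodule.span_singleton_le_iff_mem _ _).2 (Submodule.sub_mem _ hw hu)
    obtain ⟨χ, hχ, hχu, hχ0⟩ := exists_bdual hsub hu hu'
    have h0 := hχ0 _ (Submodule.mem_span_singleton_self _)
    have := fullSub_inv (hblock (Submodule.sub_mem _ hw hu) hχ h0) (show u ∈ fullSub M from hfull)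
    rwa [tv_mulVec, hχu, one_smul, add_sub_cancel] at this
  refine Submodule.eq_top_iff'.2 fun y => ?_
  rw [pi_eq_sum_univ' y]
  refine Submodule.sum_mem _ fun k _ => Submodule.smul_mem _ _ ?_
  rcases eq_or_ne (blk k) i with e | hne
  · exact hVi (e ▸ single_mem_bsub blk k 1)
  obtain ⟨σ, d, hSL, hσ, hd, -, hinv⟩ := exists_block_swap (F := F) blk hfib (by omega) hne.symm
  have hi' : blk (σ k) = i := by rw [hσ, Equiv.swap_apply_right]
  have := fullSub_inv (hS _ hSL (bstab_mon d hσ)) (hVi (hi' ▸ single_mem_bsub blk (σ k) 1))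
  rwa [mon_mulVec_single, hinv, hd _ (by rw [hi']; exact hne.symm), Units.val_one, one_mul] at this

/-- the theorem for block-monomial groups -/
theorem fullSub_of_blocks [Fintype F] (blk : ι → β) (hfib : ∀ b, (Finset.univ.filter fun k => blk k = b).card = m)
    (hm : 2 ≤ m) (hq : m = 2 → (3 ≤ Fintype.card F ∧ 3 ≤ Fintype.card β) ∨ 4 ≤ Fintype.card F)
    (hS : ∀ h ∈ specialLinear ι F, BStab blk h → h ∈ M) {g : GL ι F} (hg : g ∈ M) (hns : ¬ BStab blk g) :
    fullSub M = ⊤ := by
  classical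
  have hblock : ∀ {b : β} {v χ : ι → F}, v ∈ bsub blk b → χ ∈ bsub blk b → ∀ h : χ ⬝ᵥ v = 0, tv v χ h ∈ M :=
    fun hv hχ h => hS _ (tv_mem_SL _ _ _) (bstab_tv hv hχ h)
  have hfne : ∀ b, ∃ k, blk k = b := fun b => by
    obtain ⟨k, hk⟩ : (Finset.univ.filter fun k => blk k = b).Nonempty := Finset.card_pos.1 (by rw [hfib]; omega)
    exact ⟨k, (Finset.mem_filter.1 hk).2⟩
  -- a transvection whose centre lies in no block
  obtain ⟨b₀, x₀, hx₀, hx₀g⟩ : ∃ b x, x ∈ bsub (F := F) blk b ∧ ∀ c, (g : Matrix ι ι F) *ᵥ x ∉ bsub blk c := by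
    by_contra hcon
    push Not at hcon
    have hb : ∀ b, ∃ c, ∀ x ∈ bsub (F := F) blk b, (g : Matrix ι ι F) *ᵥ x ∈ bsub blk c := by
      intro b
      obtain ⟨k, hk⟩ := hfne b
      obtain ⟨c, hc⟩ := hcon b (Pi.single k 1) (hk ▸ single_mem_bsub blk k 1)
      refine ⟨c, bsub_le_iff g b c fun l hl => ?_⟩
      by_contra hlc
      obtain ⟨c', hc'⟩ := hcon b (Pi.single l 1) (hl ▸ single_mem_bsub blk l 1)
      obtain ⟨c'', hc''⟩ := hcon b (Pi.single k 1 + Pi.single l 1)
        (Submodule.add_mem _ (hk ▸ single_mem_bsub blk k 1) (hl ▸ single_mem_bsub blk l 1))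
      rw [Matrix.mulVec_add] at hc''
      have hcc : c ≠ c' := fun e => hlc (e ▸ hc')
      have hne : ∀ z : ι, (g : Matrix ι ι F) *ᵥ Pi.single z 1 ≠ 0 := fun z h0 => by
        rw [gl_mulVec_eq_zero] at h0
        simpa using congrFun h0 z
      obtain ⟨z, hz⟩ := Function.ne_iff.1 (hne k)
      obtain ⟨z', hz'⟩ := Function.ne_iff.1 (hne l)
      have hzc : blk z = c := by_contra fun h => hz (hc z h)
      have hzc' : blk z' = c' := by_contra fun h => hz' (hc' z' h)
      rcases eq_or_ne c'' c with rfl | h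
      · have := hc'' z' (fun e => hcc (e.symm.trans hzc'))
        rw [Pi.add_apply, hc z' (fun e => hcc (e.symm.trans hzc')), zero_add] at this
        exact hz' this
      · have := hc'' z (fun e => h (e.symm.trans hzc))
        rw [Pi.add_apply, hc' z (fun e => hcc (hzc.symm.trans e)), add_zero] at this
        exact hz this
    choose s hs using hb
    have hinj : Function.Injective s := by
      intro b b' e
      by_contra hne
      set S : Finset ι := Finset.univ.filter fun k => blk k = b ∨ blk k = b' with hSdef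
      set C : Finset ι := Finset.univ.filter fun k => blk k = s b with hCdef
      let ext : ({k // k ∈ S} → F) →ₗ[F] (ι → F) :=
        { toFun := fun y k => if h : k ∈ S then y ⟨k, h⟩ else 0
          map_add' := fun y y' => funext fun k => by simp only [Pi.add_apply]; split_ifs <;> simp
          map_smul' := fun c y => funext fun k => by simp only [Pi.smul_apply, RingHom.id_apply]; split_ifs <;> simp }
      let Φ : ({k // k ∈ S} → F) →ₗ[F] ({k // k ∈ C} → F) :=
        (LinearMap.funLeft F F (Subtype.val : {k // k ∈ C} → ι)).comp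
          ((Matrix.mulVecLin (g : Matrix ι ι F)).comp ext)
      have hScard : S.card = m + m := by
        rw [hSdef, Finset.filter_or, Finset.card_union_of_disjoint
          (Finset.disjoint_filter.2 fun k _ h1 h2 => hne (h1.symm.trans h2)), hfib, hfib]
      obtain ⟨y, hy, hy0⟩ := Submodule.exists_mem_ne_zero_of_ne_bot (LinearMap.ker_ne_bot_of_finrank_lt (f := Φ) (by
        rw [Module.finrank_fintype_fun_eq_card, Module.finrank_fintype_fun_eq_card, Fintype.card_coe, Fintype.card_coe,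
          hScard, hCdef, hfib]
        omega))
      rw [LinearMap.mem_ker] at hy
      have hin : (g : Matrix ι ι F) *ᵥ ext y ∈ bsub blk (s b) := by
        rw [pi_eq_sum_univ' (ext y), Matrix.mulVec_sum]
        refine Submodule.sum_mem _ fun k _ => ?_
        rw [Matrix.mulVec_smul]
        by_cases hk : k ∈ S
        · refine Submodule.smul_mem _ _ ?_
          rcases (Finset.mem_filter.1 hk).2 with hk' | hk'
          · exact hs b _ (hk' ▸ single_mem_bsub blk k 1)
          · rw [e]; exact hs b' _ (hk' ▸ single_mem_bsub blk k 1)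
        · rw [show ext y k = 0 from dif_neg hk, zero_smul]; exact Submodule.zero_mem _
      have hz : (g : Matrix ι ι F) *ᵥ ext y = 0 := funext fun k => by
        by_cases hk : blk k = s b
        · exact congrFun hy ⟨k, Finset.mem_filter.2 ⟨Finset.mem_univ k, hk⟩⟩
        · exact hin k hk
      rw [gl_mulVec_eq_zero] at hz
      refine hy0 (funext fun k => ?_)
      have := congrFun hz k
      rw [show ext y (k : ι) = y k from dif_pos k.2] at this
      exact this
    exact hns ⟨Equiv.ofBijective s (Finite.injective_iff_bijective.1 hinj), hs⟩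
  have hx₀0 : x₀ ≠ 0 := fun h => hx₀g b₀ (by rw [h, Matrix.mulVec_zero]; exact Submodule.zero_mem _)
  obtain ⟨χ₀, hχ₀, hχ₀0, hχx⟩ : ∃ χ, χ ∈ bsub blk b₀ ∧ χ ≠ 0 ∧ χ ⬝ᵥ x₀ = 0 := by
    obtain ⟨k, hk⟩ := Function.ne_iff.1 hx₀0
    have hkb : blk k = b₀ := by_contra fun h => hk (hx₀ k h)
    obtain ⟨k', hk', hne⟩ := Finset.exists_mem_ne (s := Finset.univ.filter fun l => blk l = b₀) (by rw [hfib]; omega) k
    have hk'b : blk k' = b₀ := (Finset.mem_filter.1 hk').2
    refine ⟨x₀ k • Pi.single k' 1 - x₀ k' • Pi.single k 1, Submodule.sub_mem _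
      (Submodule.smul_mem _ _ (hk'b ▸ single_mem_bsub blk k' 1))
      (Submodule.smul_mem _ _ (hkb ▸ single_mem_bsub blk k 1)), fun h0 => ?_, ?_⟩
    · have := congrFun h0 k'
      simp [hne] at this
      exact hk this
    · rw [sub_dotProduct, smul_dotProduct, smul_dotProduct, single_dotProduct, single_dotProduct]
      simp [mul_comm]
  obtain ⟨x, ψ, hψ0, hψ, hxno⟩ : ∃ x ψ : ι → F, ψ ≠ 0 ∧ ψ ∈ axes M x ∧ ∀ c, x ∉ bsub blk c := by
    have hax : χ₀ ∈ axes M x₀ := fun c => by
      have h0 : (c • χ₀) ⬝ᵥ x₀ = 0 := by rw [smul_dotProduct, hχx, smul_zero]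
      exact ⟨h0, hblock hx₀ (Submodule.smul_mem _ _ hχ₀) h0⟩
    refine ⟨_, _, fun h0 => hχ₀0 ?_, axes_conj hax hg, hx₀g⟩
    have := congrArg (fun v => v ᵥ* (g : Matrix ι ι F)) h0
    simpa [Matrix.vecMul_vecMul] using this
  obtain ⟨kj, hkj⟩ := Function.ne_iff.1 hψ0
  set j := blk kj with hj
  obtain ⟨ki, hki, hkij⟩ : ∃ k, x k ≠ 0 ∧ blk k ≠ j := by
    by_contra hcon
    push Not at hcon
    exact hxno j fun k hk => by_contra fun h => hk (hcon k h)
  set i := blk ki with hi
  have hψx := axes_orth hψ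
  have hψj : ∃ k, blk k = j ∧ ψ k ≠ 0 := ⟨kj, rfl, hkj⟩
  have hxi0 : bpart blk i x ≠ 0 := fun h => hki (by simpa [bpart, hi] using congrFun h ki)
  by_cases hex : ∃ u ∈ bsub (F := F) blk i, ψ ⬝ᵥ u = 0 ∧ u ∉ Submodule.span F ({bpart blk i x} : Set (ι → F))
  · obtain ⟨u, hu, hψu, hux⟩ := hex
    have hu0 : u ≠ 0 := fun h => hux (h ▸ Submodule.zero_mem _)
    have hxu : bpart blk i x ∉ Submodule.span F ({u} : Set (ι → F)) := fun h => by
      obtain ⟨c, hc⟩ := Submodule.mem_span_singleton.1 h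
      rcases eq_or_ne c 0 with rfl | hc0
      · exact hxi0 (by rw [← hc, zero_smul])
      · exact hux (Submodule.mem_span_singleton.2 ⟨c⁻¹, by rw [← hc, smul_smul, inv_mul_cancel₀ hc0, one_smul]⟩)
    obtain ⟨χ, hχ, hχx', hχu⟩ := exists_bdual ((Submodule.span_singleton_le_iff_mem _ _).2 hu) (bpart_mem _ _ _) hxu
    rw [bdot hχ] at hχx'
    have h0 := hχu u (Submodule.mem_span_singleton_self u)
    refine fullSub_of_leaving blk hfib hm hS hu hu0 (φ := ψ) (fun c => ?_) hkij.symm hψj
    have := Has.comm ⟨h0, hblock hu hχ h0⟩ (hψ c) (by rw [smul_dotProduct, hψu, smul_zero])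
    rwa [hχx', one_smul] at this
  push Not at hex
  -- the kernel in the block is the line of the component
  have hker : m = 2 ∧ ψ ⬝ᵥ bpart blk i x = 0 := by
    set Fb : Finset ι := Finset.univ.filter fun l => blk l = i with hFb
    have hFm : ∀ {l}, l ∈ Fb → (Pi.single l 1 : ι → F) ∈ bsub blk i := fun hl =>
      (Finset.mem_filter.1 hl).2 ▸ single_mem_bsub blk _ 1
    obtain ⟨k₀, hk₀, hk₀0⟩ : ∃ k ∈ Fb, ψ k ≠ 0 := by
      by_contra hcon
      push Not at hcon
      obtain ⟨k, hk⟩ : Fb.Nonempty := Finset.card_pos.1 (by rw [hFb, hfib]; omega)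
      obtain ⟨k', hk', hne⟩ := Finset.exists_mem_ne (s := Fb) (by rw [hFb, hfib]; omega) k
      obtain ⟨a, ha⟩ := Submodule.mem_span_singleton.1
        (hex _ (hFm hk) (by rw [dotProduct_single, hcon k hk, zero_mul]))
      obtain ⟨b, hb⟩ := Submodule.mem_span_singleton.1
        (hex _ (hFm hk') (by rw [dotProduct_single, hcon k' hk', zero_mul]))
      have h1 := congrFun ha k
      have h2 := congrFun hb k
      have h3 := congrFun hb k'
      rw [Pi.smul_apply, Pi.single_eq_same, smul_eq_mul] at h1 h3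
      rw [Pi.smul_apply, Pi.single_eq_of_ne hne.symm, smul_eq_mul] at h2
      rcases mul_eq_zero.1 h2 with e | e
      · rw [e, zero_mul] at h3; exact zero_ne_one h3
      · rw [e, mul_zero] at h1; exact zero_ne_one h1
    let w : ι → (ι → F) := fun k => ψ k₀ • Pi.single k 1 - ψ k • Pi.single k₀ 1
    have hw : ∀ k ∈ Fb, ∃ a : F, a • bpart blk i x = w k ∧ ψ ⬝ᵥ w k = 0 := by
      intro k hk
      have h0 : ψ ⬝ᵥ w k = 0 := by
        simp only [w, dotProduct_sub, dotProduct_smul, dotProduct_single, smul_eq_mul]; ring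
      obtain ⟨a, ha⟩ := Submodule.mem_span_singleton.1 (hex (w k)
        (Submodule.sub_mem _ (Submodule.smul_mem _ _ (hFm hk)) (Submodule.smul_mem _ _ (hFm hk₀))) h0)
      exact ⟨a, ha, h0⟩
    have hsame : ∀ k ∈ Fb, k ≠ k₀ → ∀ k' ∈ Fb, k' ≠ k₀ → k = k' := by
      intro k hk hk1 k' hk' hk1'
      by_contra hne
      obtain ⟨a, ha, -⟩ := hw k hk
      obtain ⟨b, hb, -⟩ := hw k' hk'
      have h1 := congrFun ha k
      have h2 := congrFun hb k
      have h3 := congrFun hb k'
      simp only [w, Pi.smul_apply, Pi.sub_apply, Pi.single_eq_same, Pi.single_eq_of_ne hk1, Pi.single_eq_of_ne hk1',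
        Pi.single_eq_of_ne hne, smul_eq_mul, mul_one, mul_zero, sub_zero] at h1 h2 h3
      rcases mul_eq_zero.1 h2 with e | e
      · rw [e, zero_mul] at h3; exact hk₀0 h3.symm
      · rw [e, mul_zero] at h1; exact hk₀0 h1.symm
    obtain ⟨k, hk, hk1⟩ := Finset.exists_mem_ne (s := Fb) (by rw [hFb, hfib]; omega) k₀
    refine ⟨?_, ?_⟩
    · rw [← hfib i, ← hFb, ← Finset.card_pair hk1.symm]
      congr 1
      ext l
      rw [Finset.mem_insert, Finset.mem_singleton]
      refine ⟨fun hl => ?_, fun hl => by rcases hl with rfl | rfl <;> assumption⟩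
      by_contra hcon
      push Not at hcon
      exact hcon.2 (hsame l hl hcon.1 k hk hk1)
    · obtain ⟨a, ha, h0⟩ := hw k hk
      rw [← ha, dotProduct_smul, smul_eq_mul] at h0
      refine (mul_eq_zero.1 h0).resolve_left fun e => ?_
      rw [e, zero_smul] at ha
      have := congrFun ha k
      simp [w, hk1] at this
      exact hk₀0 this.symm
  obtain ⟨hm2, hψi⟩ := hker
  obtain ⟨ν, hν, hνsq⟩ : ∃ ν : Fˣ, ν ≠ 1 ∧ (3 ≤ Fintype.card β ∨ (ν : F) * ν ≠ 1) := by
    rcases hq hm2 with ⟨hF3, hβ3⟩ | hF4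
    · haveI : Nontrivial Fˣ := Fintype.one_lt_card_iff_nontrivial.1 (by rw [Fintype.card_units]; omega)
      obtain ⟨ν, hν⟩ := exists_ne (1 : Fˣ)
      exact ⟨ν, hν, Or.inl hβ3⟩
    · obtain ⟨z, -, hz⟩ := Finset.exists_mem_notMem_of_card_lt_card (s := ({0, 1, -1} : Finset F)) (t := Finset.univ)
        (lt_of_le_of_lt Finset.card_le_three (by rw [Finset.card_univ]; omega))
      simp only [Finset.mem_insert, Finset.mem_singleton, not_or] at hz
      refine ⟨Units.mk0 z hz.1, fun e => hz.2.1 (congrArg Units.val e), Or.inr fun e => ?_⟩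
      rcases mul_self_eq_one_iff.1 e with h | h
      · exact hz.2.1 h
      · exact hz.2.2 h
  set κ : F := (ν : F) - 1 with hκ
  set κ' : F := (ν : F)⁻¹ - 1 with hκ'
  have hκ0 : κ ≠ 0 := sub_ne_zero.2 fun e => hν (Units.ext e)
  -- scaling in two blocks
  have hdiag : ∀ k, k ≠ i → ∀ c : ι → F, c ∈ bsub blk k → ψ ⬝ᵥ c = 0 → c ≠ 0 → ∀ y : ι → F, ψ ∈ axes M y →
      bpart blk i y = bpart blk i x → ∀ χ' : ι → F, χ' ∈ bsub blk k → χ' ⬝ᵥ c = 1 →
      ψ ∈ axes M (κ • bpart blk i x + (κ' * (χ' ⬝ᵥ y)) • c) := by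
    intro k hk c hc hψc hc0 y hy hyi χ' hχ' hχc
    obtain ⟨χ, hχ, hχx', -⟩ := exists_bdual (W := ⊥) bot_le (bpart_mem blk i x) (fun h => hxi0 (by simpa using h))
    set a : ι → F := bpart blk i x with ha
    have hai : a ∈ bsub blk i := bpart_mem _ _ _
    have hχc0 : χ ⬝ᵥ c = 0 := bdot_ne hχ hc hk.symm
    have hχa0 : χ' ⬝ᵥ a = 0 := bdot_ne hχ' hai hk
    let mv : F → F → Matrix ι ι F := fun r r' => 1 + r • vecMulVec a χ + r' • vecMulVec c χ'
    have hmv : ∀ r r' z, mv r r' *ᵥ z = z + (r * (χ ⬝ᵥ z)) • a + (r' * (χ' ⬝ᵥ z)) • c := by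
      intro r r' z
      simp only [mv, Matrix.add_mulVec, Matrix.one_mulVec, Matrix.smul_mulVec, vecMulVec_mulVec, op_smul_eq_smul,
        smul_smul]
    have hinv : ∀ r r' s s', r + s + r * s = 0 → r' + s' + r' * s' = 0 → mv r r' * mv s s' = 1 := by
      intro r r' s s' h1 h2
      refine Matrix.ext_iff_mulVec.2 fun z => funext fun l => ?_
      simp only [← Matrix.mulVec_mulVec, hmv, Matrix.one_mulVec, dotProduct_add, dotProduct_smul, hχx', hχc0, hχa0,
        hχc, Pi.add_apply, Pi.smul_apply, smul_eq_mul]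
      linear_combination (χ ⬝ᵥ z) * a l * h1 + (χ' ⬝ᵥ z) * c l * h2
    have hν0 := ν.ne_zero
    have e1 : κ + κ' + κ * κ' = 0 := by rw [hκ, hκ']; field_simp; ring
    let h : GL ι F := ⟨mv κ κ', mv κ' κ, hinv _ _ _ _ e1 (by linear_combination e1),
      hinv _ _ _ _ (by linear_combination e1) e1⟩
    have hdet : (mv κ κ').det = 1 := by
      have hsplit : mv κ κ' = (1 + vecMulVec (κ • a) χ) * (1 + vecMulVec (κ' • c) χ') := by
        refine Matrix.ext_iff_mulVec.2 fun z => funext fun l => ?_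
        rw [hmv]
        simp only [← Matrix.mulVec_mulVec, Matrix.add_mulVec, Matrix.one_mulVec, vecMulVec_mulVec, op_smul_eq_smul,
          dotProduct_add, dotProduct_smul, hχc0, Pi.add_apply, Pi.smul_apply, smul_eq_mul]
        ring
      rw [hsplit, Matrix.det_mul, vecMulVec_eq Unit, det_one_add_replicateCol_mul_replicateRow, vecMulVec_eq Unit,
        det_one_add_replicateCol_mul_replicateRow, dotProduct_smul, dotProduct_smul, hχx', hχc, smul_eq_mul,
        smul_eq_mul]
      linear_combination e1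
    have hM : h ∈ M := by
      refine hS h (Units.ext hdet) ⟨1, fun b z hz => ?_⟩
      show mv κ κ' *ᵥ z ∈ bsub blk b
      rw [hmv]
      refine Submodule.add_mem _ (Submodule.add_mem _ hz ?_) ?_
      · rcases eq_or_ne i b with rfl | hne
        · exact Submodule.smul_mem _ _ hai
        · rw [bdot_ne hχ hz hne, mul_zero, zero_smul]; exact Submodule.zero_mem _
      · rcases eq_or_ne k b with rfl | hne
        · exact Submodule.smul_mem _ _ hc
        · rw [bdot_ne hχ' hz hne, mul_zero, zero_smul]; exact Submodule.zero_mem _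
    have hψh : ψ ᵥ* ((h⁻¹ : GL ι F) : Matrix ι ι F) = ψ := by
      funext l
      have e2 : (ψ ᵥ* mv κ' κ) ⬝ᵥ Pi.single l 1 = ψ l := by
        rw [← dotProduct_mulVec, hmv, dotProduct_add, dotProduct_add, dotProduct_smul, dotProduct_smul, hψi, hψc,
          smul_zero, smul_zero, add_zero, add_zero, dotProduct_single, mul_one]
      rwa [dotProduct_single, mul_one] at e2
    intro r
    have h1 := axes_conj hy hM r
    rw [hψh] at h1
    have hneg : Has M ((-1 : F) • y) (r • ψ) := (has_smul_iff y _).2 (by rw [neg_one_smul]; exact (hy r).neg)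
    have h2 := h1.add_left hneg
    have e3 : (h : Matrix ι ι F) *ᵥ y + (-1 : F) • y = κ • a + (κ' * (χ' ⬝ᵥ y)) • c := by
      show mv κ κ' *ᵥ y + _ = _
      rw [hmv, show χ ⬝ᵥ y = 1 by rw [← bdot hχ y, hyi]; exact hχx', mul_one, neg_one_smul]
      abel
    rwa [e3] at h2
  have hzero : ∀ y : ι → F, ψ ∈ axes M y → bpart blk i y = bpart blk i x → ∀ k, k ≠ i → ∀ c : ι → F, c ∈ bsub blk k →
      ψ ⬝ᵥ c = 0 → c ∉ Submodule.span F ({bpart blk k y} : Set (ι → F)) → fullSub M = ⊤ := by
    intro y hy hyi k hk c hc hψc hcy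
    have hc0 : c ≠ 0 := fun h => hcy (h ▸ Submodule.zero_mem _)
    have hsub : Submodule.span F ({bpart blk k y} : Set (ι → F)) ≤ bsub blk k :=
      (Submodule.span_singleton_le_iff_mem _ _).2 (bpart_mem _ _ _)
    obtain ⟨χ', hχ', hχc, hχy⟩ := exists_bdual hsub hc hcy
    have h1 := hdiag k hk c hc hψc hc0 y hy hyi χ' hχ' hχc
    rw [← bdot hχ', hχy _ (Submodule.mem_span_singleton_self _), mul_zero, zero_smul, add_zero] at h1
    exact fullSub_of_leaving blk hfib hm hS (Submodule.smul_mem _ κ (bpart_mem blk i x))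
      (smul_ne_zero hκ0 hxi0) h1 hkij.symm hψj
  have hkerk : ∀ k, ∃ c, c ∈ bsub (F := F) blk k ∧ ψ ⬝ᵥ c = 0 ∧ c ≠ 0 := by
    intro k
    obtain ⟨k₁, hk₁⟩ := hfne k
    obtain ⟨k₂, hk₂, hne⟩ := Finset.exists_mem_ne (s := Finset.univ.filter fun l => blk l = k) (by rw [hfib]; omega) k₁
    have hk₂' := (Finset.mem_filter.1 hk₂).2
    by_cases h1 : ψ k₁ = 0
    · exact ⟨Pi.single k₁ 1, hk₁ ▸ single_mem_bsub blk k₁ 1, by rw [dotProduct_single, h1, zero_mul],
        by simp⟩
    refine ⟨ψ k₁ • Pi.single k₂ 1 - ψ k₂ • Pi.single k₁ 1, Submodule.sub_mem _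
      (Submodule.smul_mem _ _ (hk₂' ▸ single_mem_bsub blk k₂ 1))
      (Submodule.smul_mem _ _ (hk₁ ▸ single_mem_bsub blk k₁ 1)), ?_, fun e => ?_⟩
    · simp only [dotProduct_sub, dotProduct_smul, dotProduct_single, smul_eq_mul]; ring
    · have := congrFun e k₂
      simp [hne, h1] at this
  obtain ⟨k, hk, hkj'⟩ : ∃ k, k ≠ i ∧ True := ⟨j, hkij.symm, trivial⟩
  obtain ⟨c, hc, hψc, hc0⟩ := hkerk k
  by_cases hcx : c ∉ Submodule.span F ({bpart blk k x} : Set (ι → F))
  · exact hzero x hψ rfl k hk c hc hψc hcx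
  push Not at hcx
  obtain ⟨χ', hχ', hχc, -⟩ := exists_bdual (W := ⊥) bot_le hc (fun h => hc0 (by simpa using h))
  have h1 := hdiag k hk c hc hψc hc0 x hψ rfl χ' hχ' hχc
  have h2 := axes_smul h1 κ⁻¹
  rw [smul_add, smul_smul, inv_mul_cancel₀ hκ0, one_smul, smul_smul] at h2
  set y : ι → F := bpart blk i x + (κ⁻¹ * (κ' * (χ' ⬝ᵥ x))) • c with hy
  have hyi : bpart blk i y = bpart blk i x := funext fun l => by
    show (if blk l = i then y l else 0) = if blk l = i then x l else 0
    split_ifs with hl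
    · rw [hy, Pi.add_apply, Pi.smul_apply, hc l (fun e => hk (e.symm.trans hl)), smul_zero, add_zero, bpart, if_pos hl]
    · rfl
  rcases Nat.lt_or_ge (Fintype.card β) 3 with hβ | hβ
  · -- two blocks: the two centres span the component
    have hν2 : (ν : F) * ν ≠ 1 := hνsq.resolve_left (by omega)
    have hν0 := ν.ne_zero
    obtain ⟨l, hl⟩ := Submodule.mem_span_singleton.1 hcx
    have hlx : l * (χ' ⬝ᵥ x) = 1 := by
      rw [← bdot hχ' x, ← smul_eq_mul, ← dotProduct_smul, hl, hχc]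
    have hne : 1 - κ⁻¹ * κ' ≠ 0 := fun e => hν2 (by
      rw [hκ'] at e
      field_simp at e
      have e' : ((ν : F) - 1) * (ν + 1) = 0 := by rw [hκ] at e; linear_combination e
      linear_combination e')
    have hz : y + (-(κ⁻¹ * κ')) • x = (1 - κ⁻¹ * κ') • bpart blk i x := funext fun n => by
      have hcn : c n = l * bpart blk k x n := by rw [← hl]; rfl
      rcases eq_or_ne (blk n) i with hn | hn
      · simp only [hy, Pi.add_apply, Pi.smul_apply, smul_eq_mul, bpart, if_pos hn,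
          hc n (fun e => hk (e.symm.trans hn))]
        ring
      · have hnk : blk n = k := by
          by_contra hnk
          have h3 : ({i, k, blk n} : Finset β).card ≤ Fintype.card β := Finset.card_le_univ _
          rw [Finset.card_insert_of_notMem (by simp [Ne.symm hk, Ne.symm hn]),
            Finset.card_pair (Ne.symm hnk)] at h3
          omega
        simp only [hy, Pi.add_apply, Pi.smul_apply, smul_eq_mul, bpart, if_neg hn, hcn, if_pos hnk]
        linear_combination (κ⁻¹ * κ' * x n) * hlx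
    refine fullSub_of_leaving blk hfib hm hS (u := y + (-(κ⁻¹ * κ')) • x) (by
      rw [hz]; exact Submodule.smul_mem _ _ (bpart_mem _ _ _)) (by rw [hz]; exact smul_ne_zero hne hxi0)
      (φ := ψ) (fun r => (h2 r).add_left (axes_smul hψ _ r)) hkij.symm hψj
  obtain ⟨b, -, hbn⟩ := Finset.exists_mem_notMem_of_card_lt_card (s := ({i, k} : Finset β)) (t := Finset.univ)
    (lt_of_le_of_lt Finset.card_le_two (by rw [Finset.card_univ]; omega))
  simp only [Finset.mem_insert, Finset.mem_singleton, not_or] at hbn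
  obtain ⟨c', hc', hψc', hc0'⟩ := hkerk b
  refine hzero y h2 hyi b hbn.1 c' hc' hψc' ?_
  have : bpart blk b y = 0 := funext fun l => by
    show (if blk l = b then y l else 0) = 0
    split_ifs with hl
    · rw [hy, Pi.add_apply, Pi.smul_apply, hc l (fun e => hbn.2 (hl.symm.trans e)), smul_zero, add_zero, bpart,
        if_neg (fun e => hbn.1 (hl.symm.trans e))]
    · rfl
  rw [this, Submodule.span_zero_singleton, Submodule.mem_bot]
  exact hc0'

end CfsgLib.Perm.LinDecomp
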