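import Cfsg.Agent.Lib.Perm.LinDecomp.Torus
import Mathlib.LinearAlgebra.Dimension.Constructions

/-!
# Non-monomial elements fixing many coordinate vectors

A subgroup of the special linear group containing every monomial element of determinant one and a non-monomial
element contains a non-monomial element fixing all but six of the coordinate vectors.
-/

set_option autoImplicit false
set_option linter.all false

namespace CfsgLib.Perm.LinDecomp

open scoped Matrix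
open Matrix Cfsg.Geo CfsgLib.Perm.Asch CfsgLib.Perm.Trans

variable {ι : Type} [Fintype ι] [DecidableEq ι] {F : Type*} [Field F]

theorem Fixes.mulVec_of_support {J : Finset ι} {g : GL ι F} (hg : Fixes J g) {w : ι → F}
    (hw : ∀ l, l ∉ J → w l = 0) : (g : Matrix ι ι F) *ᵥ w = w := by
  funext k
  rw [Matrix.mulVec, dotProduct, Finset.sum_eq_single k]
  · by_cases hk : k ∈ J
    · rw [hg.entry hk, if_pos rfl, one_mul]
    · rw [hw k hk, mul_zero]
  · intro l _ hl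
    by_cases hlJ : l ∈ J
    · rw [hg.entry hlJ, if_neg (Ne.symm hl), zero_mul]
    · rw [hw l hlJ, mul_zero]
  · simp

theorem Fixes.insert {J : Finset ι} {g : GL ι F} (hg : Fixes J g) {k : ι}
    (hk : (g : Matrix ι ι F) *ᵥ Pi.single k 1 = Pi.single k 1) : Fixes (Insert.insert k J) g := fun j hj => by
  rcases Finset.mem_insert.1 hj with rfl | h
  · exact hk
  · exact hg j h

theorem hom_trivial_on {S : Type} [Fintype S] [DecidableEq S] (h5 : 5 ≤ Fintype.card S)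
    (π : alternatingGroup S →* Equiv.Perm ι) (T : Finset ι) (hT : ∀ a x, π a x ∈ T ↔ x ∈ T)
    (hc : T.card < Fintype.card S) : ∀ a, ∀ x ∈ T, π a x = x := by
  classical
  let φ : alternatingGroup S →* Equiv.Perm {x // x ∈ T} :=
    { toFun := fun a => (π a).subtypePerm (hT a)
      map_one' := Equiv.ext fun x => Subtype.ext (by simp)
      map_mul' := fun a b => Equiv.ext fun x => Subtype.ext
        (show π (a * b) x = π a (π b x) by rw [map_mul]; rfl) }
  have hφ := alt_hom_trivial h5 (by simpa using hc) φ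
  intro a x hx
  simpa [φ] using congrArg (fun f : alternatingGroup S →* Equiv.Perm {x // x ∈ T} =>
    ((f a ⟨x, hx⟩ : {x // x ∈ T}) : ι)) hφ

/-- four admissible parameters -/
theorem exists_four [Fintype F] (h5 : 5 ≤ Fintype.card F) {C c c2 C' c' c2' : F}
    (h : (c ≠ 0 ∧ c' ≠ 0) ∨ (c ≠ 0 ∧ c2 = 0 ∧ c' = 0 ∧ c2' ≠ 0)) :
    ∃ P : Fin 4 → F × F, Function.Injective P ∧ ∀ s, (P s).1 ≠ 0 ∧ (P s).2 ≠ 0 ∧
      C + c * (P s).1 + c2 * (P s).2 ≠ 0 ∧ C' + c' * (P s).1 + c2' * (P s).2 ≠ 0 := by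
  classical
  have two : ∀ X : Finset F, X.card ≤ 3 → ∃ a a', a ≠ a' ∧ a ∉ X ∧ a' ∉ X := by
    intro X hX
    have : 1 < (Finset.univ \ X).card := by rw [Finset.card_univ_diff]; omega
    obtain ⟨a, ha, a', ha', hne⟩ := Finset.one_lt_card.1 this
    exact ⟨a, a', hne, (Finset.mem_sdiff.1 ha).2, (Finset.mem_sdiff.1 ha').2⟩
  have avoid : ∀ K k : F, k ≠ 0 → ∀ a : F, a ≠ -K / k → K + k * a ≠ 0 := fun K k hk a ha e =>
    ha ((eq_div_iff hk).2 (by linear_combination e))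
  have mk : ∀ a a' e e' b b' : F, a ≠ a' → e ≠ e' → b ≠ b' →
      Function.Injective ![(a, b), (a', b), (e, b'), (e', b')] := by
    intro a a' e e' b b' h1 h2 h3 s s' hs
    fin_cases s <;> fin_cases s' <;> simp_all [eq_comm]
  rcases h with ⟨hc, hc'⟩ | ⟨hc, hc2, hc', hc2'⟩
  · obtain ⟨b, b', hb, hb0, hb0'⟩ := two {0} (by simp)
    obtain ⟨a, a', ha, hax, hax'⟩ := two {0, -(C + c2 * b) / c, -(C' + c2' * b) / c'} Finset.card_le_three
    obtain ⟨e, e', he, hex, hex'⟩ := two {0, -(C + c2 * b') / c, -(C' + c2' * b') / c'} Finset.card_le_three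
    simp only [Finset.mem_insert, Finset.mem_singleton, not_or] at hb0 hb0' hax hax' hex hex'
    refine ⟨_, mk a a' e e' b b' ha he hb, fun s => ?_⟩
    have key : ∀ x y : F, x ≠ 0 ∧ x ≠ -(C + c2 * y) / c ∧ x ≠ -(C' + c2' * y) / c' → y ≠ 0 →
        x ≠ 0 ∧ y ≠ 0 ∧ C + c * x + c2 * y ≠ 0 ∧ C' + c' * x + c2' * y ≠ 0 := fun x y hx hy =>
      ⟨hx.1, hy, by rw [add_right_comm]; exact avoid _ c hc x hx.2.1,
        by rw [add_right_comm]; exact avoid _ c' hc' x hx.2.2⟩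
    fin_cases s
    · exact key a b hax hb0
    · exact key a' b hax' hb0
    · exact key e b' hex hb0'
    · exact key e' b' hex' hb0'
  · obtain ⟨a, a', ha, hax, hax'⟩ := two {0, -C / c} (le_trans Finset.card_le_two (by omega))
    obtain ⟨b, b', hb, hbx, hbx'⟩ := two {0, -C' / c2'} (le_trans Finset.card_le_two (by omega))
    simp only [Finset.mem_insert, Finset.mem_singleton, not_or] at hax hax' hbx hbx'
    refine ⟨_, mk a a' a a' b b' ha ha hb, fun s => ?_⟩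
    have key : ∀ x y : F, x ≠ 0 ∧ x ≠ -C / c → y ≠ 0 ∧ y ≠ -C' / c2' →
        x ≠ 0 ∧ y ≠ 0 ∧ C + c * x + c2 * y ≠ 0 ∧ C' + c' * x + c2' * y ≠ 0 := fun x y hx hy =>
      ⟨hx.1, hy.1, by rw [hc2, zero_mul, add_zero]; exact avoid _ c hc x hx.2,
        by rw [hc', zero_mul, add_zero]; exact avoid _ c2' hc2' y hy.2⟩
    fin_cases s
    · exact key a b hax hbx
    · exact key a' b hax' hbx
    · exact key a b' hax hbx'
    · exact key a' b' hax' hbx'

variable [Fintype F] {M : Subgroup (GL ι F)}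

/-- no column is a multiple of a coordinate vector -/
theorem col_not_single (hN : ∀ (σ : Equiv.Perm ι) (d : ι → Fˣ),
      (mon σ d : GL ι F) ∈ specialLinear ι F → mon σ d ∈ M) {J : Finset ι}
    (hno : ∀ l, l ∉ J → ∀ g ∈ M, Fixes (insert l J) g → Mono g) (hcard : 2 ≤ (Jᶜ).card)
    {g : GL ι F} (hgM : g ∈ M) (hg : Fixes J g) (hgm : ¬ Mono g) (l z : ι) (hz : z ∉ J) (c : F) :
    (g : Matrix ι ι F) *ᵥ Pi.single l 1 ≠ Pi.single z c := by
  intro he
  by_cases hl : l ∈ J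
  · rw [hg l hl] at he
    have := congrFun he l
    rw [Pi.single_eq_same, Pi.single_eq_of_ne (fun e : l = z => hz (e ▸ hl))] at this
    exact one_ne_zero this
  have hc : c ≠ 0 := fun h0 => by
    rw [h0, Pi.single_zero, gl_mulVec_eq_zero] at he
    simpa using congrFun he l
  obtain ⟨p, hp, hpz⟩ := Finset.exists_mem_ne hcard z
  set s : Fˣ := Units.map (Int.castRingHom F : ℤ →* F) (Equiv.Perm.sign (Equiv.swap z l)) with hs
  set d : ι → Fˣ := Function.update (Function.update (fun _ => (1 : Fˣ)) z (Units.mk0 c hc)⁻¹) p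
    (s⁻¹ * Units.mk0 c hc) with hd
  have hdJ : ∀ j ∈ J, d j = 1 := fun j hj => by
    rw [hd, Function.update_of_ne (fun e : j = p => Finset.mem_compl.1 hp (e ▸ hj)),
      Function.update_of_ne (fun e : j = z => hz (e ▸ hj))]
  have hw : Fixes J (mon (Equiv.swap z l) d : GL ι F) := fixes_mon fun j hj =>
    ⟨Equiv.swap_apply_of_ne_of_ne (fun e => hz (e ▸ hj)) (fun e => hl (e ▸ hj)), hdJ j hj⟩
  have hprod : (∏ x, d x : Fˣ) = s⁻¹ := by
    rw [hd, Finset.prod_update_of_mem (Finset.mem_univ p), Finset.prod_update_of_mem (by simp [Ne.symm hpz]),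
      Finset.prod_const_one, mul_one]
    group
  have hwM : (mon (Equiv.swap z l) d : GL ι F) ∈ M := hN _ _ (mon_mem_SL (by
    rw [← Units.coe_prod, hprod]
    show (s : F) * ((s⁻¹ : Fˣ) : F) = 1
    rw [← Units.val_mul, mul_inv_cancel, Units.val_one]))
  refine not_mono_mon_mul hgm _ _ (hno l hl _ (M.mul_mem hwM hgM) ((hw.mul hg).insert ?_))
  rw [gl_mul_mulVec, he, mon_mulVec_single, Equiv.swap_apply_left, hd, Function.update_of_ne hpz.symm,
    Function.update_self, Units.val_inv_eq_inv_val, Units.val_mk0, inv_mul_cancel₀ hc]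

/-- two zeros of a column give a transposition -/
theorem col_torus (hN : ∀ (σ : Equiv.Perm ι) (d : ι → Fˣ),
      (mon σ d : GL ι F) ∈ specialLinear ι F → mon σ d ∈ M) {J : Finset ι}
    (hno : ∀ l, l ∉ J → ∀ g ∈ M, Fixes (insert l J) g → Mono g) (h2c : 2 ≤ (Jᶜ).card)
    {g : GL ι F} (hgM : g ∈ M) (hg : Fixes J g) (hgm : ¬ Mono g) {k : ι} (hk : k ∉ J) {ν : Fˣ}
    (hν2 : ν ^ 2 ≠ 1) (hν3 : ν ^ 3 ≠ 1)
    {p q : ι} (hpJ : p ∉ J) (hqJ : q ∉ J) (hp0 : (g : Matrix ι ι F) p k = 0) (hq0 : (g : Matrix ι ι F) q k = 0)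
    (hpq : p ≠ q) : ∃ a b e, a ≠ b ∧ g⁻¹ * tor p q ν * g = mon (Equiv.swap a b) e ∧ a ≠ k ∧ b ≠ k ∧ a ∉ J ∧ b ∉ J ∧
      ∀ l, l ≠ p → l ≠ q → (g : Matrix ι ι F) l a = 0 := by
  classical
  set v : ι → F := (g : Matrix ι ι F) *ᵥ Pi.single k 1 with hv
  have hvl : ∀ l, v l = (g : Matrix ι ι F) l k := fun l => mulVec_single_col _ k l
  rw [← hvl] at hp0 hq0
  -- elements fixing the column
  have hconj : ∀ (σ : Equiv.Perm ι) (d : ι → Fˣ), (mon σ d : GL ι F) ∈ specialLinear ι F →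
      Fixes J (mon σ d : GL ι F) → ((mon σ d : GL ι F) : Matrix ι ι F) *ᵥ v = v →
      ∃ τ e, g⁻¹ * mon σ d * g = mon τ e ∧ τ k = k ∧ ∀ j ∈ J, τ j = j := by
    intro σ d hS hJ hfix
    have hk' : ((g⁻¹ * mon σ d * g : GL ι F) : Matrix ι ι F) *ᵥ Pi.single k 1 = Pi.single k 1 := by
      rw [gl_mul_mulVec, gl_mul_mulVec, ← hv, hfix, hv, gl_inv_mulVec]
    have hF : Fixes (insert k J) (g⁻¹ * mon σ d * g) := ((hg.inv.mul hJ).mul hg).insert hk'
    obtain ⟨τ, e, he⟩ := hno k hk _ (M.mul_mem (M.mul_mem (M.inv_mem hgM) (hN σ d hS)) hgM) hF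
    have hτ : ∀ j ∈ insert k J, τ j = j := fun j hj => by
      by_contra hne
      have h1 := congrFun (hF j hj) j
      rw [he, mon_mulVec_single, Pi.single_eq_same, Pi.single_eq_of_ne (Ne.symm hne)] at h1
      exact zero_ne_one h1
    exact ⟨τ, e, he, hτ k (Finset.mem_insert_self _ _), fun j hj => hτ j (Finset.mem_insert_of_mem hj)⟩
  have hfix : ((tor p q ν : GL ι F) : Matrix ι ι F) *ᵥ v = v := funext fun l => by
    rw [tor_mulVec hpq]
    split_ifs with h1 h2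
    · rw [h1, hp0, mul_zero]
    · rw [h2, hq0, mul_zero]
    · rw [one_mul]
  obtain ⟨τ, e, he, hτk, hτJ⟩ := hconj _ _ (tor_mem_SL hpq ν) (fixes_tor ν hpJ hqJ) hfix
  obtain ⟨a, b, hab, rfl, hsupp⟩ := torus_conj_perm hν2 hν3 hpq he
    (fun l c => col_not_single hN hno h2c hgM hg hgm l p hpJ c)
  refine ⟨a, b, e, hab, he, ?_, ?_, ?_, ?_, hsupp⟩
  · rintro rfl
    exact hab.symm (by simpa using hτk)
  · rintro rfl
    exact hab (by simpa using hτk)
  · exact fun ha => hab.symm (by simpa using hτJ a ha)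
  · exact fun hb => hab (by simpa using hτJ b hb)


/-- three zeros in a column are impossible -/
theorem col_zeros_le (hN : ∀ (σ : Equiv.Perm ι) (d : ι → Fˣ),
      (mon σ d : GL ι F) ∈ specialLinear ι F → mon σ d ∈ M) {J : Finset ι}
    (hno : ∀ l, l ∉ J → ∀ g ∈ M, Fixes (insert l J) g → Mono g) (h2c : 2 ≤ (Jᶜ).card)
    {g : GL ι F} (hgM : g ∈ M) (hg : Fixes J g) (hgm : ¬ Mono g) {k : ι} (hk : k ∉ J) {ν : Fˣ}
    (hν2 : ν ^ 2 ≠ 1) (hν3 : ν ^ 3 ≠ 1) {p q r : ι} (hpJ : p ∉ J) (hqJ : q ∉ J) (hrJ : r ∉ J)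
    (hp0 : (g : Matrix ι ι F) p k = 0) (hq0 : (g : Matrix ι ι F) q k = 0) (hr0 : (g : Matrix ι ι F) r k = 0)
    (hpq : p ≠ q) (hpr : p ≠ r) (hqr : q ≠ r) : False := by
  classical
  obtain ⟨a, b, e, hab, he, -⟩ := col_torus hN hno h2c hgM hg hgm hk hν2 hν3 hpJ hqJ hp0 hq0 hpq
  obtain ⟨a', b', e', hab', he', -⟩ := col_torus hN hno h2c hgM hg hgm hk hν2 hν3 hqJ hrJ hq0 hr0 hqr
  obtain ⟨a'', b'', e'', hab'', he'', -⟩ := col_torus hN hno h2c hgM hg hgm hk hν2 hν3 hpJ hrJ hp0 hr0 hpr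
  have hmul : (tor p q ν : GL ι F) * tor q r ν = tor p r ν := gl_ext_vec fun x => funext fun l => by
    rw [gl_mul_mulVec, tor_mulVec hpq, tor_mulVec hqr, tor_mulVec hpr]
    by_cases h1 : l = p
    · simp [h1, hpq, hpr]
    by_cases h2 : l = q
    · simp [h2, hpq.symm, hqr, ν.ne_zero]
    · simp [h1, h2]
  have h1 : (mon (Equiv.swap a b) e : GL ι F) * mon (Equiv.swap a' b') e' = mon (Equiv.swap a'' b'') e'' := by
    rw [← he, ← he', ← he'', ← hmul]; group
  rw [mon_mul] at h1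
  have h2 := congrArg Equiv.Perm.sign (mon_perm_inj h1)
  rw [map_mul, Equiv.Perm.sign_swap hab, Equiv.Perm.sign_swap hab', Equiv.Perm.sign_swap hab''] at h2
  exact absurd h2 (by decide)

/-- every column has exactly one zero outside the fixed set -/
theorem col_one_zero (hN : ∀ (σ : Equiv.Perm ι) (d : ι → Fˣ),
      (mon σ d : GL ι F) ∈ specialLinear ι F → mon σ d ∈ M) (h5 : 5 ≤ Fintype.card F) {J : Finset ι}
    (hno : ∀ l, l ∉ J → ∀ g ∈ M, Fixes (insert l J) g → Mono g) (h7 : 6 ≤ (Jᶜ).card)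
    {g : GL ι F} (hgM : g ∈ M) (hg : Fixes J g) (hgm : ¬ Mono g) {k : ι} (hk : k ∉ J) :
    ∃ z, z ∉ J ∧ (g : Matrix ι ι F) z k = 0 ∧ ∀ l, l ∉ J → l ≠ z → (g : Matrix ι ι F) l k ≠ 0 := by
  classical
  set v : ι → F := (g : Matrix ι ι F) *ᵥ Pi.single k 1 with hv
  have hvl : ∀ l, v l = (g : Matrix ι ι F) l k := fun l => mulVec_single_col _ k l
  -- elements fixing the column
  have hconj : ∀ (σ : Equiv.Perm ι) (d : ι → Fˣ), (mon σ d : GL ι F) ∈ specialLinear ι F →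
      Fixes J (mon σ d : GL ι F) → ((mon σ d : GL ι F) : Matrix ι ι F) *ᵥ v = v →
      ∃ τ e, g⁻¹ * mon σ d * g = mon τ e ∧ τ k = k ∧ ∀ j ∈ J, τ j = j := by
    intro σ d hS hJ hfix
    have hk' : ((g⁻¹ * mon σ d * g : GL ι F) : Matrix ι ι F) *ᵥ Pi.single k 1 = Pi.single k 1 := by
      rw [gl_mul_mulVec, gl_mul_mulVec, ← hv, hfix, hv, gl_inv_mulVec]
    have hF : Fixes (insert k J) (g⁻¹ * mon σ d * g) := ((hg.inv.mul hJ).mul hg).insert hk'
    obtain ⟨τ, e, he⟩ := hno k hk _ (M.mul_mem (M.mul_mem (M.inv_mem hgM) (hN σ d hS)) hgM) hF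
    have hτ : ∀ j ∈ insert k J, τ j = j := fun j hj => by
      by_contra hne
      have h1 := congrFun (hF j hj) j
      rw [he, mon_mulVec_single, Pi.single_eq_same, Pi.single_eq_of_ne (Ne.symm hne)] at h1
      exact zero_ne_one h1
    exact ⟨τ, e, he, hτ k (Finset.mem_insert_self _ _), fun j hj => hτ j (Finset.mem_insert_of_mem hj)⟩
  obtain ⟨ν, hν1, hν2, hν3⟩ := exists_nu h5
  set Z : Finset ι := (Jᶜ).filter (fun l => v l = 0) with hZ
  have hZmem : ∀ {l}, l ∈ Z ↔ l ∉ J ∧ v l = 0 := by intro l; simp [hZ]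
  -- two zeros are impossible
  have hZ2 : Z.card ≤ 1 := by
    by_contra h
    obtain ⟨p, hp, q, hq, hpq⟩ := Finset.one_lt_card.1 (by omega : 1 < Z.card)
    obtain ⟨hpJ, hp0⟩ := hZmem.1 hp
    obtain ⟨hqJ, hq0⟩ := hZmem.1 hq
    obtain ⟨a, b, e, -, -, -, -, haJ, -, hsupp⟩ := col_torus hN hno (by omega) hgM hg hgm hk hν2 hν3 hpJ hqJ
      (hvl p ▸ hp0) (hvl q ▸ hq0) hpq
    obtain ⟨r, s, t, hr, hs, ht, hrs, hrt, hst⟩ := Finset.two_lt_card_iff.1 (show 2 < (Jᶜ \ {p, q}).card by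
      have h1 := Finset.le_card_sdiff ({p, q} : Finset ι) Jᶜ
      have h2 : ({p, q} : Finset ι).card ≤ 2 := Finset.card_le_two
      omega)
    simp only [Finset.mem_sdiff, Finset.mem_compl, Finset.mem_insert, Finset.mem_singleton, not_or] at hr hs ht
    exact col_zeros_le hN hno (by omega) hgM hg hgm haJ hν2 hν3 hr.1 hs.1 ht.1 (hsupp r hr.2.1 hr.2.2)
      (hsupp s hs.2.1 hs.2.2) (hsupp t ht.2.1 ht.2.2) hrs hrt hst
  -- twisted permutations of the support
  set u : ι → Fˣ := fun l => if h : v l = 0 then 1 else Units.mk0 (v l) h with hu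
  set S : Finset ι := Jᶜ \ Z with hS
  have hSmem : ∀ {l}, l ∈ S → l ∉ J ∧ v l ≠ 0 ∧ (u l : F) = v l := by
    intro l hl
    obtain ⟨hlJ, hlZ⟩ := Finset.mem_sdiff.1 hl
    have hlJ' := Finset.mem_compl.1 hlJ
    have h0 : v l ≠ 0 := fun h => hlZ (hZmem.2 ⟨hlJ', h⟩)
    exact ⟨hlJ', h0, by rw [hu]; simp [dif_neg h0]⟩
  have hScard : S.card + Z.card = (Jᶜ).card := Finset.card_sdiff_add_card_eq_card (Finset.filter_subset _ _)
  let ext : alternatingGroup {x // x ∈ S} →* Equiv.Perm ι :=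
    (Equiv.Perm.ofSubtype : Equiv.Perm {x // x ∈ S} →* Equiv.Perm ι).comp (alternatingGroup _).subtype
  have hext : ∀ a l, ext a l ≠ l → l ∈ S := fun a l h => by
    by_contra hl
    exact h (Equiv.Perm.ofSubtype_apply_of_not_mem _ hl)
  have hπ : ∀ a : alternatingGroup {x // x ∈ S}, ∃ τ e,
      g⁻¹ * tperm u (ext a) * g = mon τ e ∧ τ k = k ∧ ∀ j ∈ J, τ j = j := by
    intro a
    refine hconj _ _ (tperm_mem_SL u ?_) (fixes_mon fun j hj => ?_) (tperm_fix u _ v fun l => ?_)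
    · show Equiv.Perm.sign (Equiv.Perm.ofSubtype (a : Equiv.Perm {x // x ∈ S})) = 1
      rw [Equiv.Perm.sign_ofSubtype]
      exact Equiv.Perm.mem_alternatingGroup.1 a.2
    · have : ext a j = j := by_contra fun h => (hSmem (hext a j h)).1 hj
      exact ⟨this, by show u (ext a j) * (u j)⁻¹ = 1; rw [this, mul_inv_cancel]⟩
    · by_cases h : ext a l = l
      · exact Or.inl h
      · exact Or.inr (hSmem (hext a l h)).2.2.symm
  choose τ e hτe hτk hτJ using hπ
  let π : alternatingGroup {x // x ∈ S} →* Equiv.Perm ι := MonoidHom.mk' τ fun a b => by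
    have h1 : (mon (τ (a * b)) (e (a * b)) : GL ι F) = mon (τ a) (e a) * mon (τ b) (e b) := by
      rw [← hτe, ← hτe, ← hτe, map_mul, tperm_mul]; group
    rw [mon_mul] at h1
    exact mon_perm_inj h1
  -- the action cannot be trivial
  have hnontriv : ¬ ((5 ≤ S.card) ∧ ∀ a x, π a x = x) := by
    rintro ⟨h5S, h⟩
    obtain ⟨a, b, hab⟩ := alt_not_comm (A := {x // x ∈ S}) (by rwa [Fintype.card_coe])
    have h1 : ∀ c, τ c = 1 := fun c => Equiv.ext (h c)
    have h2 : (tperm u (ext a) : GL ι F) * tperm u (ext b) = tperm u (ext b) * tperm u (ext a) := by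
      have h3 : (mon (τ a) (e a) : GL ι F) * mon (τ b) (e b) = mon (τ b) (e b) * mon (τ a) (e a) := by
        rw [mon_mul, mon_mul, h1, h1]
        congr 1
        funext l
        exact mul_comm _ _
      rw [← hτe, ← hτe] at h3
      have h4 := congrArg (fun x => g * x * g⁻¹) h3
      simpa [mul_assoc] using h4
    rw [← tperm_mul, ← tperm_mul, ← map_mul, ← map_mul] at h2
    exact hab (Subtype.ext (Equiv.Perm.ofSubtype_injective (mon_perm_inj h2)))
  have hnotJk : ∀ T : Finset ι, (∀ x, x ∉ T → ∀ a, π a x = x) → ∀ a x, π a x ∈ T ↔ x ∈ T := by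
    intro T hfix a x
    constructor
    · intro hx
      by_contra hxT
      rw [hfix x hxT a] at hx
      exact hxT hx
    · intro hxT
      by_contra hx
      exact hx (((π a).injective (hfix _ hx a)).symm ▸ hxT)
  have hfix0 : ∀ x, x ∉ (Jᶜ).erase k → ∀ a, π a x = x := by
    intro x hx a
    by_cases hxk : x = k
    · subst hxk; exact hτk a
    · exact hτJ a x (by simpa [hxk] using hx)
  have hek : ((Jᶜ).erase k).card + 1 = (Jᶜ).card := Finset.card_erase_add_one (Finset.mem_compl.2 hk)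
  have hZ1 : Z.card = 1 := by
    by_contra hne
    refine hnontriv ⟨by omega, fun a x => ?_⟩
    by_cases hx : x ∈ (Jᶜ).erase k
    · exact hom_trivial_on (by rw [Fintype.card_coe]; omega) π _ (hnotJk _ hfix0)
        (by rw [Fintype.card_coe]; omega) a x hx
    · exact hfix0 x hx a
  obtain ⟨z, hz⟩ := Finset.card_eq_one.1 hZ1
  have hzZ : z ∈ Z := by simp [hz]
  refine ⟨z, (hZmem.1 hzZ).1, hvl z ▸ (hZmem.1 hzZ).2, fun l hlJ hlz h0 => hlz ?_⟩
  simpa [hz] using (hZmem.2 ⟨hlJ, (hvl l).trans h0⟩ : l ∈ Z)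

/-- two rows with no common pencil -/
theorem exists_row_pair {J : Finset ι} {g : GL ι F} (hg : Fixes J g) (h7 : 6 ≤ (Jᶜ).card) {z : ι} (hz : z ∉ J)
    (hcols : ∀ k, k ∉ J → ∃ z, z ∉ J ∧ (g : Matrix ι ι F) z k = 0 ∧
      ∀ l, l ∉ J → l ≠ z → (g : Matrix ι ι F) l k ≠ 0) :
    ∃ i i', i ∉ J ∧ i' ∉ J ∧ i ≠ i' ∧
      (∀ j, ∃ l ∈ (Jᶜ).erase z, l ≠ j ∧ (g : Matrix ι ι F) i l ≠ 0) ∧
      ∀ (r : F) (j : ι), ∃ l ∈ (Jᶜ).erase z, l ≠ j ∧
        (g : Matrix ι ι F) i' l ≠ r * (g : Matrix ι ι F) i l := by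
  classical
  set G : Matrix ι ι F := (g : Matrix ι ι F) with hG
  set I₀ : Finset ι := (Jᶜ).erase z with hI₀
  have hI₀c : I₀.card + 1 = (Jᶜ).card := Finset.card_erase_add_one (Finset.mem_compl.2 hz)
  let ζ : ι → ι := fun k => if h : k ∉ J then (hcols k h).choose else k
  have hζ : ∀ k, k ∉ J → ∀ l, l ∉ J → (G l k = 0 ↔ ζ k = l) := by
    intro k hk l hl
    simp only [ζ, dif_pos hk]
    obtain ⟨-, h0, hne⟩ := (hcols k hk).choose_spec
    exact ⟨fun h => by_contra fun hn => hne l hl (Ne.symm hn) h, fun h => h ▸ h0⟩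
  let zr : ι → Finset ι := fun i => I₀.filter (fun l => ζ l = i)
  set P : Finset ι := (Jᶜ).filter (fun i => 3 ≤ (zr i).card) with hP
  have hPc : 3 * P.card ≤ I₀.card := by
    calc 3 * P.card = ∑ _i ∈ P, 3 := by rw [Finset.sum_const, smul_eq_mul, mul_comm]
      _ ≤ ∑ i ∈ P, (zr i).card := Finset.sum_le_sum fun i hi => (Finset.mem_filter.1 hi).2
      _ ≤ I₀.card := by
          rw [← Finset.card_biUnion]
          · exact Finset.card_le_card (Finset.biUnion_subset.2 fun i _ => Finset.filter_subset _ _)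
          · intro a _ b _ hab
            exact Finset.disjoint_filter.2 fun l _ h1 h2 => hab (h1.symm.trans h2)
  have hmany : ∀ i, i ∉ J → i ∉ P → ∀ X : Finset ι, X.card ≤ 2 → ∃ l ∈ I₀, l ∉ X ∧ G i l ≠ 0 := by
    intro i hi hiP X hX
    have hz2 : (zr i).card ≤ 2 := by
      by_contra h
      exact hiP (Finset.mem_filter.2 ⟨Finset.mem_compl.2 hi, by omega⟩)
    obtain ⟨l, hl⟩ : (I₀ \ (X ∪ zr i)).Nonempty := by
      rw [← Finset.card_pos]
      have h1 := Finset.card_union_le X (zr i)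
      have h2 := Finset.le_card_sdiff (X ∪ zr i) I₀
      omega
    obtain ⟨hlI, hl'⟩ := Finset.mem_sdiff.1 hl
    rw [Finset.mem_union, not_or] at hl'
    have hlJ : l ∉ J := Finset.mem_compl.1 (Finset.mem_of_mem_erase hlI)
    exact ⟨l, hlI, hl'.1, fun h0 => hl'.2 (Finset.mem_filter.2 ⟨hlI, (hζ l hlJ i hi).1 h0⟩)⟩
  -- some row has no zero at all
  obtain ⟨i, hiJ', hi0⟩ : ∃ i ∈ Jᶜ, (zr i).card = 0 := by
    by_contra hcon
    push Not at hcon
    have h1 : (Jᶜ).card ≤ ∑ i ∈ Jᶜ, (zr i).card := by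
      rw [Finset.card_eq_sum_ones]
      exact Finset.sum_le_sum fun i hi => Nat.one_le_iff_ne_zero.2 (hcon i hi)
    have h2 : ∑ i ∈ Jᶜ, (zr i).card ≤ I₀.card := by
      rw [← Finset.card_biUnion]
      · exact Finset.card_le_card (Finset.biUnion_subset.2 fun i _ => Finset.filter_subset _ _)
      · intro a _ b _ hab
        exact Finset.disjoint_filter.2 fun l _ h1 h2 => hab (h1.symm.trans h2)
    omega
  have hiJ := Finset.mem_compl.1 hiJ'
  have hiP : i ∉ P := fun h => by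
    have := (Finset.mem_filter.1 h).2
    omega
  have hfree : ∀ X : Finset ι, X.card ≤ 3 → ∃ l ∈ I₀, l ∉ X ∧ G i l ≠ 0 := by
    intro X hX
    obtain ⟨l, hlI, hlX⟩ := Finset.exists_mem_notMem_of_card_lt_card (s := X) (t := I₀) (by omega)
    have hlJ : l ∉ J := Finset.mem_compl.1 (Finset.mem_of_mem_erase hlI)
    refine ⟨l, hlI, hlX, fun h0 => ?_⟩
    have hl : l ∈ zr i := Finset.mem_filter.2 ⟨hlI, (hζ l hlJ i hiJ).1 h0⟩
    rw [Finset.card_eq_zero.1 hi0] at hl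
    exact Finset.notMem_empty l hl
  by_contra hcon
  push Not at hcon
  have hpen : ∀ a b, a ∉ J → a ∉ P → b ∉ J → a ≠ b → ∃ r j, ∀ l ∈ I₀, l ≠ j → G b l = r * G a l := by
    intro a b ha haP hb hab
    refine hcon a b ha hb hab fun j => ?_
    obtain ⟨l, hl, hlj, hl0⟩ := hmany a ha haP {j} (by simp)
    exact ⟨l, hl, by simpa using hlj, hl0⟩
  have hpen' : ∀ b, b ∉ J → ∃ r j, ∀ l ∈ I₀, l ≠ j → G b l = r * G i l := fun b hb => by
    by_cases hib : i = b
    · subst hib; exact ⟨1, i, fun l _ _ => by rw [one_mul]⟩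
    · exact hpen i b hiJ hiP hb hib
  -- a single exceptional coordinate
  obtain ⟨j₀, hj₀⟩ : ∃ j₀, ∀ b, b ∉ J → b ∉ P → ∃ r, ∀ l ∈ I₀, l ≠ j₀ → G b l = r * G i l := by
    by_cases hall : ∀ b, b ∉ J → b ∉ P → ∃ r, ∀ l ∈ I₀, G b l = r * G i l
    · exact ⟨z, fun b hb hbP => (hall b hb hbP).imp fun r hr l hl _ => hr l hl⟩
    push Not at hall
    obtain ⟨b₁, hb₁, hb₁P, hb₁n⟩ := hall
    obtain ⟨r₁, j₁, hr₁⟩ := hpen' b₁ hb₁
    obtain ⟨l₁, hl₁, hl₁ne⟩ := hb₁n r₁
    have hl₁j : l₁ = j₁ := by_contra fun h => hl₁ne (hr₁ l₁ hl₁ h)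
    subst hl₁j
    refine ⟨l₁, fun b hb hbP => ?_⟩
    obtain ⟨r, j, hr⟩ := hpen' b hb
    refine ⟨r, fun l hl hlj => ?_⟩
    by_cases hlj' : l = j
    swap
    · exact hr l hl hlj'
    subst hlj'
    by_contra hne
    have hbb : b₁ ≠ b := fun e => hne (by
      subst e
      obtain ⟨m, hm, hmX, hm0⟩ := hmany i hiJ hiP {l, l₁} Finset.card_le_two
      simp only [Finset.mem_insert, Finset.mem_singleton, not_or] at hmX
      have hrr : r = r₁ := mul_right_cancel₀ hm0 ((hr m hm hmX.1).symm.trans (hr₁ m hm hmX.2))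
      rw [hrr]; exact hr₁ l hl hlj)
    obtain ⟨c, m, hc⟩ := hpen b₁ b hb₁ hb₁P hb hbb
    obtain ⟨x, hx, hxX, hx0⟩ := hfree {l, l₁, m} Finset.card_le_three
    simp only [Finset.mem_insert, Finset.mem_singleton, not_or] at hxX
    have hrc : r = c * r₁ := mul_right_cancel₀ hx0 (by
      rw [mul_assoc, ← hr₁ x hx hxX.2.1, ← hr x hx hxX.1]; exact hc x hx hxX.2.2)
    have hml : m = l := by
      by_contra h
      exact hne (by rw [hrc, mul_assoc, ← hr₁ l hl hlj]; exact hc l hl (Ne.symm h))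
    subst hml
    have h1 := hc l₁ hl₁ (Ne.symm hlj)
    rw [hr l₁ hl₁ (Ne.symm hlj), hrc, mul_assoc] at h1
    have hc0 : c = 0 := by
      by_contra hc0
      exact hl₁ne (mul_left_cancel₀ hc0 h1).symm
    obtain ⟨x', hx', hxX', hx0'⟩ := hmany b hb hbP {m} (by simp)
    rw [Finset.mem_singleton] at hxX'
    exact hx0' (by rw [hc x' hx' hxX', hc0, zero_mul])
  -- too few rows
  let Φ : ({x // x ∈ I₀} → F) →ₗ[F] (Fin 2 ⊕ {x // x ∈ P}) → F :=
    { toFun := fun y => Sum.elim ![∑ x : {x // x ∈ I₀}, G i x * y x, ∑ x : {x // x ∈ I₀}, if (x : ι) = j₀ then y x else 0]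
        fun p => ∑ x : {x // x ∈ I₀}, G p x * y x
      map_add' := fun a b => by
        funext s
        rcases s with s | s
        · fin_cases s <;> simp [mul_add, Finset.sum_add_distrib, ← Finset.sum_filter]
        · simp [mul_add, Finset.sum_add_distrib]
      map_smul' := fun c a => by
        funext s
        rcases s with s | s
        · fin_cases s <;> simp [Finset.mul_sum, mul_left_comm, ← Finset.sum_filter]
        · simp [Finset.mul_sum, mul_left_comm] }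
  obtain ⟨y, hy, hy0⟩ := Submodule.exists_mem_ne_zero_of_ne_bot (LinearMap.ker_ne_bot_of_finrank_lt (f := Φ) (by
    rw [Module.finrank_fintype_fun_eq_card, Module.finrank_fintype_fun_eq_card, Fintype.card_sum, Fintype.card_fin,
      Fintype.card_coe, Fintype.card_coe]
    omega))
  rw [LinearMap.mem_ker] at hy
  set x : ι → F := fun l => if h : l ∈ I₀ then y ⟨l, h⟩ else 0 with hxdef
  have hdot : ∀ b, (G *ᵥ x) b = ∑ s : {x // x ∈ I₀}, G b s * y s := by
    intro b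
    rw [Matrix.mulVec, dotProduct, ← Finset.sum_subset (Finset.subset_univ I₀) (fun l _ hl => by simp [hxdef, hl]),
      ← Finset.sum_coe_sort I₀]
    exact Finset.sum_congr rfl fun s _ => by simp [hxdef, s.2]
  have h0i : (∑ s : {x // x ∈ I₀}, G i s * y s) = 0 := by simpa [Φ] using congrFun hy (Sum.inl 0)
  have h0j : (∑ s : {x // x ∈ I₀}, if (s : ι) = j₀ then y s else 0) = 0 := by
    simpa [Φ] using congrFun hy (Sum.inl 1)
  have hzero : ∀ b, b ∉ J → (G *ᵥ x) b = 0 := by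
    intro b hb
    rw [hdot]
    by_cases hbP : b ∈ P
    · simpa [Φ] using congrFun hy (Sum.inr ⟨b, hbP⟩)
    obtain ⟨r, hr⟩ := hj₀ b hb hbP
    have : ∀ s : {x // x ∈ I₀}, G b s * y s = r * (G i s * y s) +
        (G b j₀ - r * G i j₀) * (if (s : ι) = j₀ then y s else 0) := by
      intro s
      by_cases hs : (s : ι) = j₀
      · rw [if_pos hs, hs]; ring
      · rw [if_neg hs, hr s s.2 hs]; ring
    rw [Finset.sum_congr rfl fun s _ => this s, Finset.sum_add_distrib, ← Finset.mul_sum, ← Finset.mul_sum, h0i,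
      h0j, mul_zero, mul_zero, add_zero]
  have hfix := hg.mulVec_of_support (w := G *ᵥ x) hzero
  have hGx : G *ᵥ x = x := by
    have := congrArg (fun w => ((g⁻¹ : GL ι F) : Matrix ι ι F) *ᵥ w) hfix
    simpa only [hG, gl_inv_mulVec] using this
  refine hy0 (funext fun s => ?_)
  have hsJ : (s : ι) ∉ J := Finset.mem_compl.1 (Finset.mem_of_mem_erase s.2)
  have := hzero s hsJ
  rw [hGx] at this
  simpa [hxdef, s.2] using this

/-- four elements with two zeros in a column -/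
theorem column_contradiction (hN : ∀ (σ : Equiv.Perm ι) (d : ι → Fˣ),
      (mon σ d : GL ι F) ∈ specialLinear ι F → mon σ d ∈ M) (h5 : 5 ≤ Fintype.card F) {J : Finset ι}
    (hno : ∀ l, l ∉ J → ∀ g ∈ M, Fixes (insert l J) g → Mono g) (h7 : 6 ≤ (Jᶜ).card)
    {g : GL ι F} (hgM : g ∈ M) (hg : Fixes J g) (hgm : ¬ Mono g) : False := by
  classical
  obtain ⟨k, hk⟩ : ∃ k, k ∈ Jᶜ := Finset.card_pos.1 (by omega)
  rw [Finset.mem_compl] at hk
  obtain ⟨z, hzJ, hz0, hzne⟩ := col_one_zero hN h5 hno h7 hgM hg hgm hk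
  set G : Matrix ι ι F := (g : Matrix ι ι F) with hG
  set I₀ : Finset ι := (Jᶜ).erase z with hI₀
  have hI₀c : I₀.card + 1 = (Jᶜ).card := Finset.card_erase_add_one (Finset.mem_compl.2 hzJ)
  obtain ⟨i, i', hi, hi', hii, hA, hpen⟩ := exists_row_pair hg h7 hzJ
    (fun k hk => col_one_zero hN h5 hno h7 hgM hg hgm hk)
  obtain ⟨j₁, hj₁I, -, hj₁⟩ := hA z
  set a : ι → F := fun l => G i l with ha
  set b : ι → F := fun l => G i' l with hb
  set d : ι → F := fun l => b l * a j₁ - b j₁ * a l with hd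
  obtain ⟨j₂, hj₂I, hj₂1, hj₂⟩ : ∃ j ∈ I₀, j ≠ j₁ ∧ d j ≠ 0 := by
    obtain ⟨l, hl, hlj, hne⟩ := hpen (b j₁ / a j₁) j₁
    exact ⟨l, hl, hlj, fun e => hne (by
      rw [div_mul_eq_mul_div, eq_div_iff hj₁]; exact sub_eq_zero.1 e)⟩
  set e : ι → F := fun l => a l * d j₂ - a j₂ * d l with he
  set R : Finset ι := (I₀.erase j₁).erase j₂ with hR
  have hRmem : ∀ {l}, l ∈ R → l ∈ I₀ ∧ l ≠ j₁ ∧ l ≠ j₂ := by
    intro l hl
    simp only [hR, Finset.mem_erase] at hl
    exact ⟨hl.2.2, hl.2.1, hl.1⟩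
  have hmemR : ∀ {l}, l ∈ I₀ → l ≠ j₁ → l ≠ j₂ → l ∈ R := fun hl h1 h2 => by simp [hR, hl, h1, h2]
  have hRc : 3 ≤ R.card := by
    have h1 := Finset.card_erase_add_one (s := I₀) hj₁I
    have h2 := Finset.card_erase_add_one (s := I₀.erase j₁) (a := j₂) (by simp [hj₂I, hj₂1])
    rw [← hR] at h2
    omega
  obtain ⟨r, hrR, hr⟩ : ∃ r ∈ R, d r ≠ 0 := by
    obtain ⟨l, hl, hlj, hne⟩ := hpen (b j₁ / a j₁) j₂
    have hd0 : d l ≠ 0 := fun e => hne (by rw [div_mul_eq_mul_div, eq_div_iff hj₁]; exact sub_eq_zero.1 e)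
    refine ⟨l, hmemR hl (fun h => hd0 ?_) hlj, hd0⟩
    subst h; simp only [hd]; ring
  obtain ⟨r', hrR', hr'⟩ : ∃ r ∈ R, e r ≠ 0 := by
    by_cases haj : a j₂ = 0
    · obtain ⟨l, hl, hlj, hne⟩ := hA j₁
      refine ⟨l, hmemR hl hlj (fun h => hne (h ▸ haj)), ?_⟩
      simp only [he, haj, zero_mul, sub_zero]
      exact mul_ne_zero hne hj₂
    · obtain ⟨l, hl, hlj, hne⟩ := hpen ((d j₂ + a j₂ * b j₁) / (a j₂ * a j₁)) j₁
      have he0 : e l ≠ 0 := fun h => hne (by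
        show b l = _ * a l
        rw [div_mul_eq_mul_div, eq_div_iff (mul_ne_zero haj hj₁)]
        simp only [he, hd] at h ⊢
        linear_combination -h)
      refine ⟨l, hmemR hl hlj (fun h => he0 ?_), he0⟩
      subst h; simp only [he]; ring
  obtain ⟨m, m₂, hmR, hm₂R, hmm, hcase⟩ : ∃ m m₂, m ∈ R ∧ m₂ ∈ R ∧ m ≠ m₂ ∧
      ((d m ≠ 0 ∧ e m ≠ 0) ∨ (d m ≠ 0 ∧ d m₂ = 0 ∧ e m = 0 ∧ e m₂ ≠ 0)) := by
    by_cases hA' : ∃ m ∈ R, d m ≠ 0 ∧ e m ≠ 0
    · obtain ⟨m, hm, h⟩ := hA'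
      obtain ⟨m₂, hm₂, hne⟩ := Finset.exists_mem_ne (s := R) (by omega) m
      exact ⟨m, m₂, hm, hm₂, hne.symm, Or.inl h⟩
    · push Not at hA'
      have hdr' : d r' = 0 := by_contra fun h => hr' (hA' r' hrR' h)
      exact ⟨r, r', hrR, hrR', fun h => hr (h ▸ hdr'), Or.inr ⟨hr, hdr', hA' r hrR hr, hr'⟩⟩
  set T : Finset ι := (R.erase m).erase m₂ with hT
  have hsplit : ∀ (f : ι → F) (A B : F), (∑ l ∈ R, f l * (if l = m then A else if l = m₂ then B else 1))
      = (∑ l ∈ T, f l) + f m * A + f m₂ * B := by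
    intro f A B
    rw [← Finset.add_sum_erase R _ hmR, ← Finset.add_sum_erase (R.erase m) _ (a := m₂) (by simp [hm₂R, hmm.symm]),
      if_pos rfl, if_neg hmm.symm, if_pos rfl, Finset.sum_congr rfl (g := f) fun l hl => by
        simp only [Finset.mem_erase] at hl
        rw [if_neg hl.2.1, if_neg hl.1, mul_one]]
    rw [← hT]
    ring
  obtain ⟨P, hPinj, hP⟩ := exists_four h5 (C := ∑ l ∈ T, d l) (c2 := d m₂) (C' := ∑ l ∈ T, e l) (c2' := e m₂) hcase
  -- the solutions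
  set v : ι → F := G *ᵥ Pi.single k 1 with hv
  have hv0 : ∀ l ∈ I₀, v l ≠ 0 := fun l hl => by
    rw [hv, mulVec_single_col]
    simp only [hI₀, Finset.mem_erase, Finset.mem_compl] at hl
    exact hzne l hl.2 hl.1
  have hvz : v z = 0 := by rw [hv, mulVec_single_col]; exact hz0
  set U : F × F → ι → F := fun p l => if l ∈ J then v l else if l = z then 0
    else if l = j₁ then -((∑ l ∈ T, e l) + e m * p.1 + e m₂ * p.2) / (a j₁ * d j₂)
    else if l = j₂ then -((∑ l ∈ T, d l) + d m * p.1 + d m₂ * p.2) / d j₂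
    else if l = m then p.1 else if l = m₂ then p.2 else 1 with hU
  have hUI : ∀ p, ∀ l ∈ I₀, U p l = (if l = j₁ then -((∑ l ∈ T, e l) + e m * p.1 + e m₂ * p.2) / (a j₁ * d j₂)
      else if l = j₂ then -((∑ l ∈ T, d l) + d m * p.1 + d m₂ * p.2) / d j₂
      else if l = m then p.1 else if l = m₂ then p.2 else 1) := by
    intro p l hl
    simp only [hI₀, Finset.mem_erase, Finset.mem_compl] at hl
    simp only [hU, if_neg hl.2, if_neg hl.1]
  have hUz : ∀ p, U p z = 0 := fun p => by simp only [hU, if_neg hzJ, if_true]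
  have hrow : ∀ (p : F × F) (c : ι), c ∉ J → (G *ᵥ U p) c = ∑ l ∈ I₀, G c l * U p l := by
    intro p c hc
    rw [Matrix.mulVec, dotProduct, Finset.sum_subset (Finset.subset_univ I₀)]
    intro l _ hl
    simp only [hI₀, Finset.mem_erase, Finset.mem_compl, not_and, not_not] at hl
    by_cases hlz : l = z
    · rw [hlz, hUz, mul_zero]
    · rw [hG, hg.entry (hl hlz), if_neg (fun e : c = l => hc (e ▸ hl hlz)), zero_mul]
  have hI : ∀ (p : F × F) (f : ι → F), ∑ l ∈ I₀, f l * U p l = f j₁ * U p j₁ + (f j₂ * U p j₂ +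
      ((∑ l ∈ T, f l) + f m * p.1 + f m₂ * p.2)) := by
    intro p f
    rw [← hsplit f, ← Finset.add_sum_erase I₀ _ hj₁I,
      ← Finset.add_sum_erase (I₀.erase j₁) _ (a := j₂) (by simp [hj₂I, hj₂1]), ← hR]
    congr 2
    refine Finset.sum_congr rfl fun l hl => ?_
    obtain ⟨h1, h2, h3⟩ := hRmem hl
    rw [hUI p l h1, if_neg h2, if_neg h3]
  have hU1 : ∀ p, U p j₁ = -((∑ l ∈ T, e l) + e m * p.1 + e m₂ * p.2) / (a j₁ * d j₂) := fun p => by
    rw [hUI p j₁ hj₁I, if_pos rfl]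
  have hU2 : ∀ p, U p j₂ = -((∑ l ∈ T, d l) + d m * p.1 + d m₂ * p.2) / d j₂ := fun p => by
    rw [hUI p j₂ hj₂I, if_neg hj₂1, if_pos rfl]
  have hEsum : (∑ l ∈ T, e l) = (∑ l ∈ T, a l) * d j₂ - a j₂ * ∑ l ∈ T, d l := by
    simp only [he, Finset.sum_sub_distrib, ← Finset.sum_mul, ← Finset.mul_sum]
  have hDsum : (∑ l ∈ T, d l) = (∑ l ∈ T, b l) * a j₁ - b j₁ * ∑ l ∈ T, a l := by
    simp only [hd, Finset.sum_sub_distrib, ← Finset.sum_mul, ← Finset.mul_sum]
  have hzero : ∀ p, (G *ᵥ U p) i = 0 ∧ (G *ᵥ U p) i' = 0 := by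
    intro p
    have h1 : (G *ᵥ U p) i = 0 := by
      rw [hrow p i hi, hI p a, hU1, hU2, hEsum, show e m = a m * d j₂ - a j₂ * d m from rfl,
        show e m₂ = a m₂ * d j₂ - a j₂ * d m₂ from rfl]
      have haj : a j₁ ≠ 0 := hj₁
      field_simp
      ring
    refine ⟨h1, ?_⟩
    have h2 : a j₁ * (G *ᵥ U p) i' = b j₁ * (G *ᵥ U p) i := by
      rw [hrow p i' hi', hrow p i hi, hI p b, hI p a]
      have h3 : d j₂ * U p j₂ + ((∑ l ∈ T, d l) + d m * p.1 + d m₂ * p.2) = 0 := by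
        rw [hU2, mul_div_cancel₀ _ hj₂, neg_add_cancel]
      rw [hDsum, show d m = b m * a j₁ - b j₁ * a m from rfl, show d m₂ = b m₂ * a j₁ - b j₁ * a m₂ from rfl,
        show d j₂ = b j₂ * a j₁ - b j₁ * a j₂ from rfl] at h3
      linear_combination h3
    rw [h1, mul_zero] at h2
    exact (mul_eq_zero.1 h2).resolve_left hj₁
  have hne0 : ∀ s, ∀ l ∈ I₀, U (P s) l ≠ 0 := by
    intro s l hl
    obtain ⟨h1, h2, h3, h4⟩ := hP s
    rw [hUI _ l hl]
    split_ifs
    · exact div_ne_zero (neg_ne_zero.2 h4) (mul_ne_zero hj₁ hj₂)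
    · exact div_ne_zero (neg_ne_zero.2 h3) hj₂
    · exact h1
    · exact h2
    · exact one_ne_zero
  -- the images are multiples of coordinate vectors
  have himg : ∀ s, ∃ p c, c ≠ 0 ∧ G *ᵥ U (P s) = Pi.single p c := by
    intro s
    let t₀ : ι → Fˣ := fun l => if h : l ∈ I₀ then Units.mk0 (U (P s) l / v l) (div_ne_zero (hne0 s l h) (hv0 l h))
      else 1
    let t : ι → Fˣ := Function.update t₀ z (∏ l, t₀ l)⁻¹
    have hzI : z ∉ I₀ := by simp [hI₀]
    have ht0z : t₀ z = 1 := dif_neg hzI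
    have htprod : (∏ l, t l : Fˣ) = 1 := by
      rw [Finset.prod_update_of_mem (Finset.mem_univ z), Finset.prod_eq_mul_prod_diff_singleton_of_mem (Finset.mem_univ z) t₀,
        ht0z, one_mul, inv_mul_cancel]
    have htJ : ∀ j ∈ J, t j = 1 := fun j hj => by
      show Function.update t₀ z _ j = 1
      rw [Function.update_of_ne (fun e : j = z => hzJ (e ▸ hj))]
      exact dif_neg (by simp [hI₀, hj])
    have htv : ((mon 1 t : GL ι F) : Matrix ι ι F) *ᵥ v = U (P s) := by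
      funext l
      rw [mon_mulVec]
      show (t l : F) * v l = _
      by_cases hlz : l = z
      · rw [hlz, hvz, mul_zero, hUz]
      show (Function.update t₀ z _ l : F) * v l = _
      rw [Function.update_of_ne hlz]
      by_cases hl : l ∈ I₀
      · simp only [t₀, dif_pos hl, Units.val_mk0, div_mul_cancel₀ _ (hv0 l hl)]
      · have hlJ : l ∈ J := by simpa [hI₀, hlz] using hl
        simp only [t₀, dif_neg hl, Units.val_one, one_mul, hU, if_pos hlJ]
    have htS : (mon 1 t : GL ι F) ∈ specialLinear ι F := mon_mem_SL (by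
      rw [map_one, Units.val_one, Int.cast_one, one_mul, ← Units.coe_prod, htprod, Units.val_one])
    set y : GL ι F := g * mon 1 t * g with hy
    have hyM : y ∈ M := M.mul_mem (M.mul_mem hgM (hN _ _ htS)) hgM
    have hyJ : Fixes J y := (hg.mul (fixes_mon fun j hj => ⟨rfl, htJ j hj⟩)).mul hg
    have hcol : ((y : GL ι F) : Matrix ι ι F) *ᵥ Pi.single k 1 = G *ᵥ U (P s) := by
      rw [hy, gl_mul_mulVec, gl_mul_mulVec, ← hG, ← hv, htv]
    by_cases hmono : Mono y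
    · obtain ⟨σ, dd, hσ⟩ := hmono
      rw [hσ, mon_mulVec_single, mul_one] at hcol
      exact ⟨σ k, _, (dd k).ne_zero, hcol.symm⟩
    · obtain ⟨z', -, -, hz'⟩ := col_one_zero hN h5 hno h7 hyM hyJ hmono hk
      exfalso
      have hii' : i ≠ z' ∨ i' ≠ z' := by
        by_contra h
        push Not at h
        exact hii (h.1.trans h.2.symm)
      rcases hii' with h | h
      · exact hz' i hi h ((mulVec_single_col _ k i).symm.trans ((congrFun hcol i).trans (hzero _).1))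
      · exact hz' i' hi' h ((mulVec_single_col _ k i').symm.trans ((congrFun hcol i').trans (hzero _).2))
  choose p c hc hpc using himg
  -- four distinct images in three dimensions
  have hUm : ∀ q : F × F, U q m = q.1 ∧ U q m₂ = q.2 := fun q => by
    obtain ⟨h1, h2, h3⟩ := hRmem hmR
    obtain ⟨h4, h5, h6⟩ := hRmem hm₂R
    rw [hUI q m h1, hUI q m₂ h4, if_neg h2, if_neg h3, if_pos rfl, if_neg h5, if_neg h6, if_neg hmm.symm, if_pos rfl]
    exact ⟨rfl, rfl⟩
  obtain ⟨x₀, hx₀R, hx₀m, hx₀m₂⟩ : ∃ x ∈ R, x ≠ m ∧ x ≠ m₂ := by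
    obtain ⟨x, hx, hxn⟩ := Finset.exists_mem_notMem_of_card_lt_card (s := {m, m₂}) (t := R)
      (lt_of_le_of_lt Finset.card_le_two (by omega))
    simp only [Finset.mem_insert, Finset.mem_singleton, not_or] at hxn
    exact ⟨x, hx, hxn⟩
  have hU0 : ∀ q, U q x₀ = 1 := fun q => by
    obtain ⟨h1, h2, h3⟩ := hRmem hx₀R
    rw [hUI q x₀ h1, if_neg h2, if_neg h3, if_neg hx₀m, if_neg hx₀m₂]
  have hpinj : Function.Injective p := by
    intro s s' hs
    have h1 : G *ᵥ (c s' • U (P s) - c s • U (P s')) = 0 := by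
      rw [Matrix.mulVec_sub, Matrix.mulVec_smul, Matrix.mulVec_smul, hpc, hpc, hs, ← Pi.single_smul,
        ← Pi.single_smul, smul_eq_mul, smul_eq_mul, mul_comm, sub_self]
    rw [hG, gl_mulVec_eq_zero, sub_eq_zero] at h1
    have h2 := congrFun h1 x₀
    simp only [Pi.smul_apply, smul_eq_mul, hU0, mul_one] at h2
    rw [h2] at h1
    have h3 : U (P s) = U (P s') := smul_right_injective _ (hc s) h1
    refine hPinj (Prod.ext ?_ ?_)
    · rw [← (hUm (P s)).1, h3, (hUm (P s')).1]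
    · rw [← (hUm (P s)).2, h3, (hUm (P s')).2]
  let Ψ : (Fin 4 → F) →ₗ[F] (Fin 3 → F) :=
    { toFun := fun w => ![∑ s, w s, ∑ s, w s * (P s).1, ∑ s, w s * (P s).2]
      map_add' := fun w w' => by funext t; fin_cases t <;> simp [add_mul, Finset.sum_add_distrib]
      map_smul' := fun r w => by funext t; fin_cases t <;> simp [Finset.mul_sum, mul_assoc] }
  obtain ⟨w, hw, hw0⟩ := Submodule.exists_mem_ne_zero_of_ne_bot
    (LinearMap.ker_ne_bot_of_finrank_lt (f := Ψ) (by simp))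
  rw [LinearMap.mem_ker] at hw
  have hw1 : ∑ s, w s = 0 := by simpa [Ψ] using congrFun hw 0
  have hw2 : ∑ s, w s * (P s).1 = 0 := by simpa [Ψ] using congrFun hw 1
  have hw3 : ∑ s, w s * (P s).2 = 0 := by simpa [Ψ] using congrFun hw 2
  have haff : ∀ A B C : F, ∑ s, w s * (A + B * (P s).1 + C * (P s).2) = 0 := fun A B C => by
    simp only [mul_add, Finset.sum_add_distrib, mul_left_comm _ B, mul_left_comm _ C, ← Finset.mul_sum,
      ← Finset.sum_mul, hw1, hw2, hw3, zero_mul, mul_zero, add_zero]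
  have hsum : ∑ s, w s • U (P s) = 0 := funext fun l => by
    rw [Finset.sum_apply, Pi.zero_apply]
    simp only [Pi.smul_apply, smul_eq_mul, hU]
    split_ifs
    · rw [← Finset.sum_mul, hw1, zero_mul]
    · simp
    · refine Eq.trans (Finset.sum_congr rfl fun s _ => ?_)
        (haff (-(∑ l ∈ T, e l) / (a j₁ * d j₂)) (-e m / (a j₁ * d j₂)) (-e m₂ / (a j₁ * d j₂)))
      ring
    · refine Eq.trans (Finset.sum_congr rfl fun s _ => ?_)
        (haff (-(∑ l ∈ T, d l) / d j₂) (-d m / d j₂) (-d m₂ / d j₂))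
      ring
    · exact hw2
    · exact hw3
    · simp [hw1]
  have himg0 : ∑ s, w s • (Pi.single (p s) (c s) : ι → F) = 0 := by
    have := congrArg (fun x => G *ᵥ x) hsum
    simpa only [Matrix.mulVec_sum, Matrix.mulVec_smul, hpc, Matrix.mulVec_zero] using this
  refine hw0 (funext fun s => ?_)
  have := congrFun himg0 (p s)
  rw [Finset.sum_apply, Finset.sum_eq_single s] at this
  · simpa [hc s] using this
  · intro s' _ hs'
    simp [Pi.single_eq_of_ne (hpinj.ne (Ne.symm hs'))]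
  · simp

/-- the growth of the fixed set -/
theorem exists_fixes_large (hN : ∀ (σ : Equiv.Perm ι) (d : ι → Fˣ),
      (mon σ d : GL ι F) ∈ specialLinear ι F → mon σ d ∈ M) (h5 : 5 ≤ Fintype.card F)
    {g : GL ι F} (hgM : g ∈ M) (hgm : ¬ Mono g) :
    ∃ (J : Finset ι) (y : GL ι F), (Jᶜ).card ≤ 5 ∧ y ∈ M ∧ Fixes J y ∧ ¬ Mono y := by
  classical
  suffices h : ∀ (r : ℕ) (J : Finset ι) (y : GL ι F), (Jᶜ).card = r → y ∈ M → Fixes J y → ¬ Mono y →
      ∃ (J : Finset ι) (y : GL ι F), (Jᶜ).card ≤ 5 ∧ y ∈ M ∧ Fixes J y ∧ ¬ Mono y from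
    h _ ∅ g rfl hgM (fun j hj => absurd hj (Finset.notMem_empty j)) hgm
  intro r
  induction r using Nat.strong_induction_on with
  | _ r ih =>
    intro J y hr hy hJ hm
    by_cases h6 : (Jᶜ).card ≤ 5
    · exact ⟨J, y, h6, hy, hJ, hm⟩
    by_contra hcon
    refine column_contradiction hN h5 (fun l hl y' hy' hJ' => ?_) (by omega) hy hJ hm
    by_contra hm'
    refine hcon (ih _ ?_ _ y' rfl hy' hJ' hm')
    rw [Finset.compl_insert, ← hr]
    exact Finset.card_erase_lt_of_mem (Finset.mem_compl.2 hl)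

end CfsgLib.Perm.LinDecomp
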