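import Cfsg.Agent.Lib.Perm.Trans.Basic
import Mathlib.GroupTheory.Perm.Sign
import Mathlib.LinearAlgebra.Matrix.Determinant.Basic

/-!
# Monomial elements of the general linear group
-/

set_option autoImplicit false
set_option linter.all false

namespace CfsgLib.Perm.LinDecomp

open scoped Matrix
open Matrix Cfsg.Geo CfsgLib.Perm.Asch CfsgLib.Perm.Trans

variable {ι : Type} [Fintype ι] [DecidableEq ι] {F : Type*} [Field F]

/-- the matrix of `e_l ↦ d_l e_(σ l)` -/
def monMat (σ : Equiv.Perm ι) (d : ι → Fˣ) : Matrix ι ι F :=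
  fun k l => if k = σ l then (d l : F) else 0

theorem monMat_mul (σ τ : Equiv.Perm ι) (d e : ι → Fˣ) :
    (monMat σ d : Matrix ι ι F) * monMat τ e = monMat (σ * τ) fun l => d (τ l) * e l := by
  ext k l
  rw [Matrix.mul_apply, Finset.sum_eq_single (τ l)]
  · show (if k = σ (τ l) then (d (τ l) : F) else 0) * (if τ l = τ l then (e l : F) else 0)
      = if k = (σ * τ) l then ((d (τ l) * e l : Fˣ) : F) else 0
    rw [if_pos rfl, ite_mul, zero_mul, Units.val_mul]
    rfl
  · intro j _ hj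
    simp [monMat, hj]
  · simp

theorem monMat_one : (monMat 1 (fun _ => 1) : Matrix ι ι F) = 1 := by
  ext k l
  rw [Matrix.one_apply]
  show (if k = l then ((1 : Fˣ) : F) else 0) = _
  rw [Units.val_one]

/-- the monomial element `e_l ↦ d_l e_(σ l)` -/
def mon (σ : Equiv.Perm ι) (d : ι → Fˣ) : GL ι F where
  val := monMat σ d
  inv := monMat σ⁻¹ fun k => (d (σ⁻¹ k))⁻¹
  val_inv := by
    rw [monMat_mul, mul_inv_cancel, ← monMat_one]
    congr 1
    funext l
    simp
  inv_val := by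
    rw [monMat_mul, inv_mul_cancel, ← monMat_one]
    congr 1
    funext l
    simp

theorem mon_apply (σ : Equiv.Perm ι) (d : ι → Fˣ) (k l : ι) :
    (mon σ d : Matrix ι ι F) k l = if k = σ l then (d l : F) else 0 := rfl

theorem mon_mul (σ τ : Equiv.Perm ι) (d e : ι → Fˣ) :
    (mon σ d : GL ι F) * mon τ e = mon (σ * τ) fun l => d (τ l) * e l :=
  Units.ext (monMat_mul σ τ d e)

theorem mon_one : (mon 1 (fun _ => 1) : GL ι F) = 1 := Units.ext monMat_one

theorem mon_inv (σ : Equiv.Perm ι) (d : ι → Fˣ) :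
    (mon σ d : GL ι F)⁻¹ = mon σ⁻¹ fun k => (d (σ⁻¹ k))⁻¹ := Units.ext rfl

theorem mon_mulVec (σ : Equiv.Perm ι) (d : ι → Fˣ) (x : ι → F) (k : ι) :
    ((mon σ d : GL ι F) : Matrix ι ι F).mulVec x k = (d (σ.symm k) : F) * x (σ.symm k) := by
  rw [Matrix.mulVec, dotProduct, Finset.sum_eq_single (σ.symm k)]
  · simp [mon_apply]
  · intro j _ hj
    rw [mon_apply, if_neg (fun h => hj (by rw [h, Equiv.symm_apply_apply])), zero_mul]
  · simp

theorem mon_mulVec_single (σ : Equiv.Perm ι) (d : ι → Fˣ) (l : ι) (c : F) :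
    ((mon σ d : GL ι F) : Matrix ι ι F) *ᵥ Pi.single l c = Pi.single (σ l) ((d l : F) * c) := by
  funext k
  rw [mon_mulVec]
  by_cases h : k = σ l
  · subst h; simp
  · rw [Pi.single_eq_of_ne h, Pi.single_eq_of_ne (fun e => h (by rw [← e, Equiv.apply_symm_apply])),
      mul_zero]

theorem mon_vecMul_single (σ : Equiv.Perm ι) (d : ι → Fˣ) (φ : ι → F) (l : ι) :
    (φ ᵥ* ((mon σ d : GL ι F) : Matrix ι ι F)) l = φ (σ l) * (d l : F) := by
  rw [Matrix.vecMul, dotProduct, Finset.sum_eq_single (σ l)]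
  · simp [mon_apply]
  · intro j _ hj
    rw [mon_apply, if_neg hj, mul_zero]
  · simp

theorem mon_vecMul_inv (σ : Equiv.Perm ι) (d : ι → Fˣ) (φ : ι → F) (k : ι) :
    (φ ᵥ* (((mon σ d : GL ι F)⁻¹ : GL ι F) : Matrix ι ι F)) k
      = φ (σ.symm k) * (d (σ.symm k) : F)⁻¹ := by
  rw [mon_inv, mon_vecMul_single, Units.val_inv_eq_inv_val]
  rfl

theorem det_mon (σ : Equiv.Perm ι) (d : ι → Fˣ) :
    ((mon σ d : GL ι F) : Matrix ι ι F).det = ((Equiv.Perm.sign σ : ℤ) : F) * ∏ l, (d l : F) := by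
  have h : ((mon σ d : GL ι F) : Matrix ι ι F)
      = (Matrix.diagonal fun l => (d l : F)).submatrix σ.symm id := by
    ext k l
    simp only [mon_apply, Matrix.submatrix_apply, id_eq, Matrix.diagonal_apply]
    by_cases hk : k = σ l
    · subst hk; simp
    · rw [if_neg hk, if_neg (fun e => hk (by rw [← e, Equiv.apply_symm_apply]))]
  rw [h, Matrix.det_permute, Matrix.det_diagonal, Equiv.Perm.sign_symm]

theorem mon_mem_SL {σ : Equiv.Perm ι} {d : ι → Fˣ}
    (h : ((Equiv.Perm.sign σ : ℤ) : F) * ∏ l, (d l : F) = 1) :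
    (mon σ d : GL ι F) ∈ specialLinear ι F :=
  Units.ext (by rw [Matrix.GeneralLinearGroup.val_det_apply, det_mon, h]; rfl)

/-- `g` is monomial -/
def Mono (g : GL ι F) : Prop := ∃ σ d, g = mon σ d

theorem Mono.mul {g h : GL ι F} (hg : Mono g) (hh : Mono h) : Mono (g * h) := by
  obtain ⟨σ, d, rfl⟩ := hg
  obtain ⟨τ, e, rfl⟩ := hh
  exact ⟨_, _, mon_mul σ τ d e⟩

theorem Mono.inv {g : GL ι F} (hg : Mono g) : Mono g⁻¹ := by
  obtain ⟨σ, d, rfl⟩ := hg
  exact ⟨_, _, mon_inv σ d⟩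

theorem mono_mon (σ : Equiv.Perm ι) (d : ι → Fˣ) : Mono (mon σ d : GL ι F) := ⟨σ, d, rfl⟩

theorem not_mono_mon_mul {g : GL ι F} (hg : ¬ Mono g) (σ : Equiv.Perm ι) (d : ι → Fˣ) :
    ¬ Mono (mon σ d * g) := fun h => hg (by simpa using (mono_mon σ d).inv.mul h)

/-- columns -/
theorem mulVec_single_col (A : Matrix ι ι F) (l k : ι) : (A *ᵥ Pi.single l 1) k = A k l := by
  rw [Matrix.mulVec_single_one]; rfl

/-- a matrix with a single entry in each column is monomial -/
theorem mono_of_cols {g : GL ι F} (h : ∀ l, ∃ k, ∀ j, j ≠ k → (g : Matrix ι ι F) j l = 0) :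
    Mono g := by
  choose s hs using h
  have hcol : ∀ l, (g : Matrix ι ι F) *ᵥ Pi.single l 1
      = Pi.single (s l) ((g : Matrix ι ι F) (s l) l) := fun l => funext fun k => by
    rw [mulVec_single_col]
    by_cases hk : k = s l
    · subst hk; rw [Pi.single_eq_same]
    · rw [Pi.single_eq_of_ne hk, hs l k hk]
  have hne : ∀ l, (g : Matrix ι ι F) (s l) l ≠ 0 := fun l h0 => by
    have h1 := hcol l
    rw [h0, Pi.single_zero, gl_mulVec_eq_zero] at h1
    simpa using congrFun h1 l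
  have hinj : Function.Injective s := fun a b hab => by
    by_contra hne'
    set c := (g : Matrix ι ι F) (s a) a
    set c' := (g : Matrix ι ι F) (s b) b
    have h1 : (g : Matrix ι ι F) *ᵥ (c' • Pi.single a 1 - c • Pi.single b 1) = 0 := by
      rw [Matrix.mulVec_sub, Matrix.mulVec_smul, Matrix.mulVec_smul, hcol, hcol]
      show c' • Pi.single (s a) c - c • Pi.single (s b) c' = 0
      rw [hab, ← Pi.single_smul, ← Pi.single_smul, smul_eq_mul, smul_eq_mul, mul_comm, sub_self]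
    rw [gl_mulVec_eq_zero] at h1
    have h2 := congrFun h1 a
    rw [Pi.sub_apply, Pi.smul_apply, Pi.smul_apply, Pi.single_eq_same, Pi.single_eq_of_ne hne',
      Pi.zero_apply, smul_zero, sub_zero, smul_eq_mul, mul_one] at h2
    exact hne b h2
  refine ⟨Equiv.ofBijective s (Finite.injective_iff_bijective.1 hinj),
    fun l => Units.mk0 _ (hne l), Units.ext ?_⟩
  ext k l
  rw [mon_apply]
  by_cases hk : k = s l
  · subst hk; simp
  · exact (hs l k hk).trans (if_neg hk).symm

/-- the torus element `diag(ν at p, ν⁻¹ at q)` -/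
def tor (p q : ι) (ν : Fˣ) : GL ι F :=
  mon 1 (Function.update (Function.update (fun _ => 1) p ν) q ν⁻¹)

theorem tor_mem_SL {p q : ι} (h : p ≠ q) (ν : Fˣ) : (tor p q ν : GL ι F) ∈ specialLinear ι F := by
  refine mon_mem_SL ?_
  rw [map_one, Units.val_one, Int.cast_one, one_mul, ← Units.coe_prod,
    Finset.prod_update_of_mem (Finset.mem_univ q), Finset.prod_update_of_mem (by simp [h]),
    Finset.prod_const_one, mul_one, inv_mul_cancel, Units.val_one]

theorem tor_mulVec {p q : ι} (h : p ≠ q) (ν : Fˣ) (x : ι → F) (k : ι) :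
    ((tor p q ν : GL ι F) : Matrix ι ι F).mulVec x k =
      (if k = p then (ν : F) else if k = q then (ν : F)⁻¹ else 1) * x k := by
  rw [tor, mon_mulVec]
  show (Function.update (Function.update (fun _ => (1 : Fˣ)) p ν) q ν⁻¹ k : F) * x k = _
  by_cases hq : k = q
  · subst hq; simp [h.symm]
  · rw [Function.update_of_ne hq]
    by_cases hp : k = p
    · subst hp; simp
    · simp [hp, hq]

/-- `g` fixes the coordinate vectors in `J` -/
def Fixes (J : Finset ι) (g : GL ι F) : Prop :=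
  ∀ j ∈ J, (g : Matrix ι ι F) *ᵥ Pi.single j 1 = Pi.single j 1

theorem Fixes.mul {J : Finset ι} {g h : GL ι F} (hg : Fixes J g) (hh : Fixes J h) :
    Fixes J (g * h) := fun j hj => by rw [gl_mul_mulVec, hh j hj, hg j hj]

theorem Fixes.inv {J : Finset ι} {g : GL ι F} (hg : Fixes J g) : Fixes J g⁻¹ := fun j hj => by
  conv_lhs => rw [← hg j hj, gl_inv_mulVec]

theorem Fixes.entry {J : Finset ι} {g : GL ι F} (hg : Fixes J g) {j : ι} (hj : j ∈ J) (k : ι) :
    (g : Matrix ι ι F) k j = if k = j then 1 else 0 :=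
  (mulVec_single_col (g : Matrix ι ι F) j k).symm.trans
    ((congrFun (hg j hj) k).trans (Pi.single_apply j (1 : F) k))

theorem fixes_mon {J : Finset ι} {σ : Equiv.Perm ι} {d : ι → Fˣ}
    (h : ∀ j ∈ J, σ j = j ∧ d j = 1) : Fixes J (mon σ d : GL ι F) := fun j hj => by
  rw [mon_mulVec_single, (h j hj).1, (h j hj).2, Units.val_one, one_mul]

theorem fixes_tor {J : Finset ι} {p q : ι} (ν : Fˣ) (hp : p ∉ J) (hq : q ∉ J) :
    Fixes J (tor p q ν : GL ι F) := fixes_mon fun j hj =>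
  ⟨rfl, by rw [Function.update_of_ne (fun e : j = q => hq (e ▸ hj)),
    Function.update_of_ne (fun e : j = p => hp (e ▸ hj))]⟩

end CfsgLib.Perm.LinDecomp
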