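import Cfsg.Agent.Lib.Perm.LinDecomp.Growth

/-!
# Transvections from non-monomial elements

In dimension at least six over a field with at least five elements, a subgroup containing every monomial element of
determinant one and a non-monomial element contains all transvections. A non-monomial element fixing a coordinate
vector `e_l` is first studied modulo the transvections centred at `e_l`.
-/

set_option autoImplicit false
set_option linter.all false

namespace CfsgLib.Perm.LinDecomp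

open scoped Matrix
open Matrix Cfsg.Geo CfsgLib.Perm.Asch CfsgLib.Perm.Trans

variable {ι : Type} [Fintype ι] [DecidableEq ι] {F : Type*} [Field F]

theorem tor_vecMul_inv {p q : ι} (h : p ≠ q) (ν : Fˣ) (φ : ι → F) (k : ι) :
    (φ ᵥ* (((tor p q ν : GL ι F)⁻¹ : GL ι F) : Matrix ι ι F)) k
      = (if k = p then (ν : F)⁻¹ else if k = q then (ν : F) else 1) * φ k := by
  rw [tor, mon_vecMul_inv, mul_comm]
  congr 1
  show ((Function.update (Function.update (fun _ => (1 : Fˣ)) p ν) q ν⁻¹ k : Fˣ) : F)⁻¹ = _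
  by_cases hq : k = q
  · subst hq; simp [h.symm]
  · rw [Function.update_of_ne hq]
    by_cases hp : k = p
    · subst hp; simp
    · simp [hp, hq]

theorem Fixes.mulVec_apply {J : Finset ι} {g : GL ι F} (hg : Fixes J g) (x : ι → F) (k : ι) :
    ((g : Matrix ι ι F) *ᵥ x) k = (if k ∈ J then x k else 0)
      + (fun a => if a ∈ J then 0 else (g : Matrix ι ι F) k a) ⬝ᵥ x := by
  rw [Matrix.mulVec, dotProduct, dotProduct, ← Finset.sum_ite_eq J k x, ← Finset.sum_ite_mem_eq J,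
    ← Finset.sum_add_distrib]
  refine Finset.sum_congr rfl fun a _ => ?_
  by_cases ha : a ∈ J
  · rw [if_pos ha, if_pos ha, hg.entry ha, ite_mul, one_mul, zero_mul, add_zero]
  · rw [if_neg ha, if_neg ha, zero_add]

theorem exists_move_perm (W O : Finset ι) (l : ι) (hl : l ∉ W) (hO : O ⊆ W)
    (hc : W.card + (W \ O).card + 1 ≤ Fintype.card ι) :
    ∃ π : Equiv.Perm ι, π l = l ∧ (∀ x ∈ O, π x = x) ∧ ∀ x ∈ W \ O, π x ∉ W := by
  classical
  have h1 : (W \ O).card ≤ (Finset.univ \ insert l W).card := by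
    rw [Finset.card_univ_diff, Finset.card_insert_of_notMem hl]; omega
  obtain ⟨T, hT, hTc⟩ := Finset.exists_subset_card_eq h1
  have e := Finset.equivOfCardEq hTc.symm
  have hTW : ∀ x ∈ T, x ∉ W ∧ x ≠ l := fun x hx => by
    have := hT hx
    simp only [Finset.mem_sdiff, Finset.mem_insert, not_or] at this
    exact ⟨this.2.2, this.2.1⟩
  let f : ι → ι := fun x => if h : x ∈ W \ O then (e ⟨x, h⟩ : ι) else if h : x ∈ T then (e.symm ⟨x, h⟩ : ι) else x
  have hf : Function.Involutive f := by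
    intro x
    by_cases h : x ∈ W \ O
    · have h2 : (e ⟨x, h⟩ : ι) ∉ W \ O := fun h' => (hTW _ (e ⟨x, h⟩).2).1 (Finset.mem_sdiff.1 h').1
      simp only [f, dif_pos h, dif_neg h2, dif_pos (e ⟨x, h⟩).2, Subtype.coe_eta, Equiv.symm_apply_apply]
    · by_cases h' : x ∈ T
      · simp only [f, dif_neg h, dif_pos h', dif_pos (e.symm ⟨x, h'⟩).2, Subtype.coe_eta, Equiv.apply_symm_apply]
      · simp only [f, dif_neg h, dif_neg h']
  refine ⟨hf.toPerm f, ?_, fun x hx => ?_, fun x hx => ?_⟩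
  · show f l = l
    simp only [f, dif_neg (fun h : l ∈ W \ O => hl (Finset.mem_sdiff.1 h).1),
      dif_neg (fun h : l ∈ T => (hTW l h).2 rfl)]
  · show f x = x
    simp only [f, dif_neg (fun h : x ∈ W \ O => (Finset.mem_sdiff.1 h).2 hx),
      dif_neg (fun h : x ∈ T => (hTW x h).1 (hO hx))]
  · show f x ∉ W
    simp only [f, dif_pos hx]
    exact (hTW _ (e ⟨x, hx⟩).2).1

variable {M : Subgroup (GL ι F)}

/-- an elementary root group away from `l` -/
def Elem (M : Subgroup (GL ι F)) (l : ι) : Prop :=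
  ∃ i j, i ≠ j ∧ i ≠ l ∧ j ≠ l ∧ (Pi.single j 1 : ι → F) ∈ axes M (Pi.single i 1)

/-- a single transvection with a centre off the hyperplane of its axis gives an elementary root group -/
theorem elementary_of_transvection {l : ι} (hNl : ∀ (σ : Equiv.Perm ι) (d : ι → Fˣ), σ l = l →
      (mon σ d : GL ι F) ∈ specialLinear ι F → mon σ d ∈ M) {ν : Fˣ} (hν : ν ≠ 1) {x ψ : ι → F}
    (h : Has M x ψ) {i : ι} (hli : l ≠ i) (hxi : x i ≠ 0) (hψi : ψ i = 0) (hψ : ψ ≠ 0) (hxl : x l = 0)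
    (hψl : ψ l = 0) : Elem M l := by
  classical
  have hν1 : (ν : F) - 1 ≠ 0 := sub_ne_zero.2 fun e => hν (Units.ext e)
  have hM : ∀ {p q : ι}, p ≠ q → ∀ μ : Fˣ, (tor p q μ : GL ι F) ∈ M := fun hpq μ =>
    hNl _ _ rfl (tor_mem_SL hpq μ)
  have hψinv : ∀ μ : Fˣ, ψ ᵥ* (((tor i l μ : GL ι F)⁻¹ : GL ι F) : Matrix ι ι F) = ψ := fun μ => funext fun k => by
    rw [tor_vecMul_inv hli.symm]
    split_ifs with h1 h2
    · rw [h1, hψi, mul_zero]
    · rw [h2, hψl, mul_zero]
    · rw [one_mul]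
  set c : F := ((ν : F) - 1) * x i with hc
  have hc0 : c ≠ 0 := mul_ne_zero hν1 hxi
  have h1 : Has M (Pi.single i 1) (c • ψ) := by
    have ha := h.conj (hM hli.symm ν)
    rw [hψinv] at ha
    have hb : Has M ((-1 : F) • x) ψ := (has_smul_iff x ψ).2 (by rw [neg_one_smul]; exact h.neg)
    have hd := ha.add_left hb
    rw [show ((tor i l ν : GL ι F) : Matrix ι ι F) *ᵥ x + (-1 : F) • x = c • Pi.single i 1 from funext fun k => by
      rw [Pi.add_apply, tor_mulVec hli.symm, Pi.smul_apply, Pi.smul_apply, smul_eq_mul, smul_eq_mul, hc]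
      split_ifs with h1 h2
      · subst h1; rw [Pi.single_eq_same]; ring
      · subst h2; rw [Pi.single_eq_of_ne hli, hxl]; ring
      · rw [Pi.single_eq_of_ne h1]; ring] at hd
    exact (has_smul_iff _ _).1 hd
  have hψax : ψ ∈ axes M (Pi.single i 1) := by
    intro a
    rcases eq_or_ne a 0 with rfl | ha
    · rw [zero_smul]; exact has_zero_right _
    set μ : Fˣ := Units.mk0 (a / c) (div_ne_zero ha hc0)
    have h2 := h1.conj (hM hli.symm μ)
    rw [smul_vecMul, hψinv, show ((tor i l μ : GL ι F) : Matrix ι ι F) *ᵥ Pi.single i 1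
        = (a / c) • Pi.single i 1 from funext fun k => by
      rw [tor_mulVec hli.symm, Pi.smul_apply, smul_eq_mul]
      by_cases hk : k = i
      · subst hk; rw [if_pos rfl]; rfl
      · rw [Pi.single_eq_of_ne hk, mul_zero, mul_zero], has_smul_iff, smul_smul, div_mul_cancel₀ a hc0] at h2
    exact h2
  obtain ⟨j, hj⟩ : ∃ j, ψ j ≠ 0 := by
    by_contra hcon
    push Not at hcon
    exact hψ (funext hcon)
  have hji : j ≠ i := fun e => hj (e ▸ hψi)
  have hjl : j ≠ l := fun e => hj (e ▸ hψl)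
  have hfixi : ∀ {p q : ι}, p ≠ q → p ≠ i → q ≠ i → ∀ μ : Fˣ,
      ((tor p q μ : GL ι F) : Matrix ι ι F) *ᵥ Pi.single i 1 = Pi.single i 1 := by
    intro p q hpq hp hq μ
    funext k
    rw [tor_mulVec hpq]
    by_cases hk : k = i
    · subst hk; rw [if_neg hp.symm, if_neg hq.symm, one_mul]
    · rw [Pi.single_eq_of_ne hk, mul_zero]
  have hej : (Pi.single j 1 : ι → F) ∈ axes M (Pi.single i 1) := by
    have h2 := axes_conj hψax (hM hjl ν)
    rw [hfixi hjl hji hli] at h2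
    have hd : ((ν : F)⁻¹ - 1) * ψ j ≠ 0 := mul_ne_zero (sub_ne_zero.2 fun e =>
      hν (Units.ext (inv_eq_one.1 e))) hj
    have h3 := (axes M (Pi.single i 1)).smul_mem (((ν : F)⁻¹ - 1) * ψ j)⁻¹ (Submodule.sub_mem _ h2 hψax)
    convert h3 using 1
    funext k
    rw [Pi.smul_apply, Pi.sub_apply, tor_vecMul_inv hjl, smul_eq_mul]
    by_cases hk : k = j
    · subst hk
      rw [Pi.single_eq_same, if_pos rfl, show (ν : F)⁻¹ * ψ k - ψ k = ((ν : F)⁻¹ - 1) * ψ k by ring,
        inv_mul_cancel₀ hd]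
    · rw [Pi.single_eq_of_ne hk, if_neg hk]
      split_ifs with h2
      · rw [h2, hψl]; ring
      · ring
  exact ⟨i, j, hji.symm, hli.symm, hjl, hej⟩

/-- one elementary root group gives all -/
theorem fullSub_of_elementary (hN : ∀ (σ : Equiv.Perm ι) (d : ι → Fˣ),
      (mon σ d : GL ι F) ∈ specialLinear ι F → mon σ d ∈ M) {i j : ι} (hji : j ≠ i)
    (hej : (Pi.single j 1 : ι → F) ∈ axes M (Pi.single i 1)) : fullSub M = ⊤ := by
  classical
  have hswap : ∀ p q : ι, p ≠ q →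
      (mon (Equiv.swap p q) (Function.update (fun _ => (1 : Fˣ)) q (-1)) : GL ι F) ∈ M := by
    intro p q hpq
    refine hN _ _ (mon_mem_SL ?_)
    rw [Equiv.Perm.sign_swap hpq, ← Units.coe_prod, Finset.prod_update_of_mem (Finset.mem_univ q),
      Finset.prod_const_one, mul_one]
    simp
  have hall : ∀ k, k ≠ i → (Pi.single k 1 : ι → F) ∈ axes M (Pi.single i 1) := by
    intro k hk
    rcases eq_or_ne k j with rfl | hkj
    · exact hej
    have h2 := axes_conj hej (hswap j k hkj.symm)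
    rw [show ((mon (Equiv.swap j k) (Function.update (fun _ => (1 : Fˣ)) k (-1)) : GL ι F) : Matrix ι ι F)
        *ᵥ Pi.single i 1 = Pi.single i 1 by
      rw [mon_mulVec_single, Equiv.swap_apply_of_ne_of_ne hji.symm hk.symm, Function.update_of_ne hk.symm,
        Units.val_one, one_mul]] at h2
    convert h2 using 1
    funext m
    rw [mon_vecMul_inv, Equiv.symm_swap]
    by_cases hm : m = k
    · subst hm
      rw [Pi.single_eq_same, Equiv.swap_apply_right, Pi.single_eq_same, Function.update_of_ne hkj.symm]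
      simp
    · rw [Pi.single_eq_of_ne hm, Pi.single_eq_of_ne, zero_mul]
      exact fun e => hm ((Equiv.swap_apply_eq_iff.1 e).trans (Equiv.swap_apply_left j k))
  have hfull : FullC M (Pi.single i (1 : F)) := by
    refine fullC_of_axes fun φ hφ => ?_
    rw [dotProduct_single, mul_one] at hφ
    rw [pi_eq_sum_univ' φ]
    refine Submodule.sum_mem _ fun k _ => ?_
    rcases eq_or_ne k i with rfl | hk
    · rw [hφ, zero_smul]; exact Submodule.zero_mem _
    · exact Submodule.smul_mem _ _ (hall k hk)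
  have hsingle : ∀ k, (Pi.single k 1 : ι → F) ∈ fullSub M := by
    intro k
    rcases eq_or_ne i k with rfl | hk
    · exact hfull
    have h2 := fullSub_inv (hswap i k hk) (show Pi.single i (1 : F) ∈ fullSub M from hfull)
    rwa [mon_mulVec_single, Equiv.swap_apply_left, Function.update_of_ne hk, Units.val_one, one_mul] at h2
  refine Submodule.eq_top_iff'.2 fun y => ?_
  rw [pi_eq_sum_univ' y]
  exact Submodule.sum_mem _ fun k _ => Submodule.smul_mem _ _ (hsingle k)

/-- a single transvection with a centre off the hyperplane of its axis gives all -/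
theorem fullSub_of_transvection (hN : ∀ (σ : Equiv.Perm ι) (d : ι → Fˣ),
      (mon σ d : GL ι F) ∈ specialLinear ι F → mon σ d ∈ M) {ν : Fˣ} (hν : ν ≠ 1) {x ψ : ι → F}
    (h : Has M x ψ) {i l : ι} (hli : l ≠ i) (hxi : x i ≠ 0) (hψi : ψ i = 0) (hψ : ψ ≠ 0) (hxl : x l = 0)
    (hψl : ψ l = 0) : fullSub M = ⊤ := by
  obtain ⟨a, b, hab, -, -, hb⟩ :=
    elementary_of_transvection (fun σ d _ hd => hN σ d hd) hν h hli hxi hψi hψ hxl hψl
  exact fullSub_of_elementary hN hab.symm hb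

/-- a transvection centred at a coordinate vector -/
theorem fullSub_of_centre (hN : ∀ (σ : Equiv.Perm ι) (d : ι → Fˣ),
      (mon σ d : GL ι F) ∈ specialLinear ι F → mon σ d ∈ M) (hn : 4 ≤ Fintype.card ι) {ν : Fˣ} (hν : ν ≠ 1) {l : ι}
    {φ : ι → F} (h : Has M (Pi.single l 1) φ) (hφ : φ ≠ 0) : fullSub M = ⊤ := by
  classical
  have hφl : φ l = 0 := by
    obtain ⟨h0, -⟩ := h
    rwa [dotProduct_single, mul_one] at h0
  obtain ⟨s, hs⟩ := Function.ne_iff.1 hφ
  rw [Pi.zero_apply] at hs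
  have hsl : s ≠ l := fun e => hs (e ▸ hφl)
  obtain ⟨t, -, ht⟩ := Finset.exists_mem_notMem_of_card_lt_card (s := ({l, s} : Finset ι)) (t := Finset.univ)
    (lt_of_le_of_lt Finset.card_le_two (by rw [Finset.card_univ]; omega))
  simp only [Finset.mem_insert, Finset.mem_singleton, not_or] at ht
  obtain ⟨w, -, hw⟩ := Finset.exists_mem_notMem_of_card_lt_card (s := ({l, s, t} : Finset ι)) (t := Finset.univ)
    (lt_of_le_of_lt Finset.card_le_three (by rw [Finset.card_univ]; omega))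
  simp only [Finset.mem_insert, Finset.mem_singleton, not_or] at hw
  have htM : (tor s t ν : GL ι F) ∈ M := hN _ _ (tor_mem_SL (Ne.symm ht.2) ν)
  have h1 := h.conj htM
  rw [show ((tor s t ν : GL ι F) : Matrix ι ι F) *ᵥ Pi.single l 1 = Pi.single l 1 from funext fun k => by
    rw [tor_mulVec (Ne.symm ht.2)]
    by_cases hk : k = l
    · subst hk; rw [if_neg hsl.symm, if_neg (Ne.symm ht.1), one_mul]
    · rw [Pi.single_eq_of_ne hk, mul_zero]] at h1
  have h2 := h1.add_right h.neg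
  refine fullSub_of_transvection hN hν h2 (i := l) (l := w) hw.1 (by rw [Pi.single_eq_same]; exact one_ne_zero)
    ?_ (fun e => ?_) (Pi.single_eq_of_ne hw.1 _) ?_
  · rw [Pi.add_apply, Pi.neg_apply, tor_vecMul_inv (Ne.symm ht.2), hφl]
    ring
  · have e1 := congrFun e s
    rw [Pi.add_apply, Pi.neg_apply, tor_vecMul_inv (Ne.symm ht.2), if_pos rfl, Pi.zero_apply] at e1
    exact mul_ne_zero (sub_ne_zero.2 fun e => hν (Units.ext (inv_eq_one.1 e))) hs
      (show ((ν : F)⁻¹ - 1) * φ s = 0 by linear_combination e1)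
  · rw [Pi.add_apply, Pi.neg_apply, tor_vecMul_inv (Ne.symm ht.2), if_neg hw.2.1, if_neg hw.2.2]
    ring

/-! ### Pseudo-reflections -/

/-- the product of the pseudo-reflection at `(u, α)` with eigenvalue `ν` and the one at `e_l` with `ν⁻¹` is in `M` -/
def Rf (M : Subgroup (GL ι F)) (ν : Fˣ) (l : ι) (u α : ι → F) : Prop :=
  u l = 0 ∧ α l = 0 ∧ α ⬝ᵥ u = 1 ∧ ∃ R ∈ M, ∀ x, (R : Matrix ι ι F) *ᵥ x
    = x + (((ν : F) - 1) * (α ⬝ᵥ x)) • u + Pi.single l (((ν : F)⁻¹ - 1) * x l)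

variable {ν : Fˣ} {l : ι} {u α u' α' : ι → F}

theorem Rf.conj (h : Rf M ν l u α) {g : GL ι F} (hg : g ∈ M) {c : F} (hc : c ≠ 0)
    (hgl : (g : Matrix ι ι F) *ᵥ Pi.single l 1 = Pi.single l c)
    (hrow : ∀ x, ((g : Matrix ι ι F) *ᵥ x) l = c * x l) :
    Rf M ν l ((g : Matrix ι ι F) *ᵥ u) (α ᵥ* ((g⁻¹ : GL ι F) : Matrix ι ι F)) := by
  obtain ⟨hu, hα, hαu, R, hR, hRx⟩ := h
  refine ⟨by rw [hrow, hu, mul_zero], ?_, by rw [← dotProduct_mulVec, gl_inv_mulVec, hαu], g * R * g⁻¹,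
    M.mul_mem (M.mul_mem hg hR) (M.inv_mem hg), fun x => ?_⟩
  · have h1 : ((g⁻¹ : GL ι F) : Matrix ι ι F) *ᵥ Pi.single l 1 = Pi.single l c⁻¹ := by
      have h2 : (g : Matrix ι ι F) *ᵥ Pi.single l c⁻¹ = Pi.single l 1 := by
        rw [show (Pi.single l c⁻¹ : ι → F) = c⁻¹ • Pi.single l 1 by rw [← Pi.single_smul, smul_eq_mul, mul_one],
          Matrix.mulVec_smul, hgl, ← Pi.single_smul, smul_eq_mul, inv_mul_cancel₀ hc]
      conv_lhs => rw [← h2, gl_inv_mulVec]
    have h3 : (α ᵥ* ((g⁻¹ : GL ι F) : Matrix ι ι F)) ⬝ᵥ Pi.single l 1 = 0 := by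
      rw [← dotProduct_mulVec, h1, dotProduct_single, hα, zero_mul]
    rwa [dotProduct_single, mul_one] at h3
  · have hx : (((g⁻¹ : GL ι F) : Matrix ι ι F) *ᵥ x) l = c⁻¹ * x l := by
      have := hrow (((g⁻¹ : GL ι F) : Matrix ι ι F) *ᵥ x)
      rw [gl_mulVec_inv] at this
      rw [this, inv_mul_cancel_left₀ hc]
    rw [gl_mul_mulVec, gl_mul_mulVec, hRx, Matrix.mulVec_add, Matrix.mulVec_add, gl_mulVec_inv, Matrix.mulVec_smul,
      ← dotProduct_mulVec, hx, show (Pi.single l (((ν : F)⁻¹ - 1) * (c⁻¹ * x l)) : ι → F)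
        = (((ν : F)⁻¹ - 1) * (c⁻¹ * x l)) • Pi.single l 1 by rw [← Pi.single_smul, smul_eq_mul, mul_one],
      Matrix.mulVec_smul, hgl, ← Pi.single_smul, smul_eq_mul]
    congr 2
    rw [mul_assoc, mul_comm c⁻¹ (x l), mul_assoc (x l), inv_mul_cancel₀ hc, mul_one]

/-- a transvection from two pseudo-reflections -/
theorem Rf.has (h : Rf M ν l u α) (h' : Rf M ν l u' α') (h0 : α' ⬝ᵥ u = 0) :
    Has M u ((((ν : F) - 1) * ((ν : F) - 1) * (α ⬝ᵥ u') / ν) • α') := by
  obtain ⟨hu, hα, hαu, R, hR, hRx⟩ := h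
  obtain ⟨hu', hα', hαu', R', hR', hRx'⟩ := h'
  obtain ⟨K, hK⟩ : ∃ K, K = ((ν : F) - 1) * ((ν : F) - 1) * (α ⬝ᵥ u') / ν := ⟨_, rfl⟩
  rw [← hK]
  have horth : K • α' ⬝ᵥ u = 0 := by rw [smul_dotProduct, h0, smul_zero]
  refine ⟨horth, ?_⟩
  have : tv u (K • α') horth * (R' * R) = R * R' := gl_ext_vec fun x => funext fun k => by
    have hν := ν.ne_zero
    have hKν : (ν : F) * K = ((ν : F) - 1) * ((ν : F) - 1) * (α ⬝ᵥ u') := by rw [hK, mul_div_cancel₀ _ hν]
    simp only [gl_mul_mulVec, tv_mulVec, hRx, hRx', smul_dotProduct, dotProduct_add, dotProduct_smul,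
      dotProduct_single, hα, hα', hαu', h0, hu, hu', Pi.add_apply, Pi.smul_apply, Pi.single_eq_same, smul_eq_mul,
      zero_mul, mul_zero, add_zero, mul_one, zero_add]
    by_cases hk : k = l
    · subst hk; simp [hu, hu']
    · simp only [Pi.single_eq_of_ne hk]
      linear_combination (α' ⬝ᵥ x) * u k * hKν
  rw [eq_mul_inv_of_mul_eq this]
  exact M.mul_mem (M.mul_mem hR hR') (M.inv_mem (M.mul_mem hR' hR))

/-- conjugating one pseudo-reflection by another -/
theorem Rf.grow (h : Rf M ν l u α) (h' : Rf M ν l u' α') :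
    Rf M ν l (u + (((ν : F) - 1) * (α' ⬝ᵥ u)) • u') (α + (((ν : F)⁻¹ - 1) * (α ⬝ᵥ u')) • α') := by
  obtain ⟨hu', hα', hαu', R', hR', hRx'⟩ := h'
  have hν := ν.ne_zero
  have hrow : ∀ x, ((R' : Matrix ι ι F) *ᵥ x) l = (ν : F)⁻¹ * x l := fun x => by
    rw [hRx', Pi.add_apply, Pi.add_apply, Pi.smul_apply, Pi.single_eq_same, hu', smul_zero]; ring
  have hgl : (R' : Matrix ι ι F) *ᵥ Pi.single l 1 = Pi.single l (ν : F)⁻¹ := by
    rw [hRx', dotProduct_single, hα', zero_mul, mul_zero, zero_smul, add_zero, Pi.single_eq_same, mul_one,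
      ← Pi.single_add, add_sub_cancel]
  have h2 := h.conj hR' (inv_ne_zero hν) hgl hrow
  have e1 : (R' : Matrix ι ι F) *ᵥ u = u + (((ν : F) - 1) * (α' ⬝ᵥ u)) • u' := by
    rw [hRx', h.1, mul_zero, Pi.single_zero, add_zero]
  have hinv : ∀ x, ((R'⁻¹ : GL ι F) : Matrix ι ι F) *ᵥ x
      = x + (((ν : F)⁻¹ - 1) * (α' ⬝ᵥ x)) • u' + Pi.single l (((ν : F) - 1) * x l) := by
    intro x
    have : (R' : Matrix ι ι F) *ᵥ (x + (((ν : F)⁻¹ - 1) * (α' ⬝ᵥ x)) • u' + Pi.single l (((ν : F) - 1) * x l))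
        = x := by
      funext k
      simp only [hRx', dotProduct_add, dotProduct_smul, dotProduct_single, hαu', hα', Pi.add_apply, Pi.smul_apply,
        Pi.single_eq_same, hu', smul_eq_mul, zero_mul, mul_zero, mul_one, add_zero]
      by_cases hk : k = l
      · subst hk; simp only [Pi.single_eq_same, hu']; field_simp; ring
      · simp only [Pi.single_eq_of_ne hk]; field_simp; ring
    conv_lhs => rw [← this, gl_inv_mulVec]
  have e2 : α ᵥ* ((R'⁻¹ : GL ι F) : Matrix ι ι F) = α + (((ν : F)⁻¹ - 1) * (α ⬝ᵥ u')) • α' := funext fun k => by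
    have e3 : (α ᵥ* ((R'⁻¹ : GL ι F) : Matrix ι ι F)) ⬝ᵥ Pi.single k 1
        = (α + (((ν : F)⁻¹ - 1) * (α ⬝ᵥ u')) • α') ⬝ᵥ Pi.single k 1 := by
      rw [← dotProduct_mulVec, hinv, dotProduct_add, dotProduct_add, dotProduct_smul, add_dotProduct,
        smul_dotProduct, dotProduct_single _ _ l, h.2.1, zero_mul, add_zero, smul_eq_mul, smul_eq_mul]
      ring
    simpa only [dotProduct_single, mul_one] using e3
  rwa [e1, e2] at h2

theorem Rf.move (hNl : ∀ (σ : Equiv.Perm ι) (d : ι → Fˣ), σ l = l →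
      (mon σ d : GL ι F) ∈ specialLinear ι F → mon σ d ∈ M) (h : Rf M ν l u α) {π : Equiv.Perm ι} (hπ : π l = l)
    (d : ι → Fˣ) : ∃ u' α', Rf M ν l u' α' ∧ ∀ x, u' (π x) = d x * u x ∧ α' (π x) = α x * (d x : F)⁻¹ := by
  classical
  set s : Fˣ := Units.map (Int.castRingHom F : ℤ →* F) (Equiv.Perm.sign π) with hs
  set d' : ι → Fˣ := Function.update d l (s * ∏ x ∈ Finset.univ \ {l}, d x)⁻¹ with hd'
  have hM : (mon π d' : GL ι F) ∈ M := hNl _ _ hπ (mon_mem_SL (by
    show (s : F) * _ = 1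
    rw [← Units.coe_prod, hd', Finset.prod_update_of_mem (Finset.mem_univ l), ← Units.val_mul]
    rw [← mul_assoc, mul_comm s, mul_assoc, inv_mul_cancel]
    rfl))
  have hπs : π.symm l = l := by rw [Equiv.symm_apply_eq, hπ]
  refine ⟨_, _, h.conj hM (c := (d' l : F)) (d' l).ne_zero (by rw [mon_mulVec_single, hπ, mul_one])
    (fun x => by rw [mon_mulVec, hπs]), fun x => ?_⟩
  rw [mon_mulVec, mon_vecMul_inv, Equiv.symm_apply_apply]
  rcases eq_or_ne x l with rfl | hx
  · rw [h.1, h.2.1]; simp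
  · rw [hd', Function.update_of_ne hx]
    exact ⟨rfl, rfl⟩

/-- the mutual products of a moved pseudo-reflection only see the kept positions -/
theorem dot_moved {W O : Finset ι} {π : Equiv.Perm ι} (hO : O ⊆ W) (hout : ∀ x ∈ W \ O, π x ∉ W)
    {a b b' : ι → F} {c : ι → F} (ha : ∀ x, x ∉ W → a x = 0) (hb : ∀ x, x ∉ W → b x = 0)
    (hb' : ∀ x, b' (π x) = c x * b x) : a ⬝ᵥ b' = ∑ x ∈ O, a (π x) * (c x * b x) := by
  classical
  rw [dotProduct, ← Equiv.sum_comp π]
  simp only [hb']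
  refine (Finset.sum_subset (Finset.subset_univ O) fun x _ hx => ?_).symm
  by_cases hxW : x ∈ W
  · rw [ha _ (hout x (Finset.mem_sdiff.2 ⟨hxW, hx⟩)), zero_mul]
  · rw [hb x hxW, mul_zero, mul_zero]

theorem exists_avoid [Fintype F] (h5 : 5 ≤ Fintype.card F) {a b c : F} (ha : a ≠ 0) :
    ∃ x : F, x ≠ 0 ∧ x ≠ -1 ∧ a * x ^ 2 + b * x + c ≠ 0 := by
  classical
  have h2 : (Finset.univ.filter fun x : F => a * x ^ 2 + b * x + c = 0).card ≤ 2 := by
    rcases (Finset.univ.filter fun x : F => a * x ^ 2 + b * x + c = 0).eq_empty_or_nonempty with h | ⟨r, hr⟩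
    · rw [h]; simp
    refine le_trans (Finset.card_le_card (t := {r, -b / a - r}) fun y hy => ?_) Finset.card_le_two
    rw [Finset.mem_filter] at hr hy
    rw [Finset.mem_insert, Finset.mem_singleton]
    rcases eq_or_ne y r with h | h
    · exact Or.inl h
    · refine Or.inr ?_
      have h' : (y - r) * (a * (y + r) + b) = 0 := by linear_combination hy.2 - hr.2
      have h'' := (mul_eq_zero.1 h').resolve_left (sub_ne_zero.2 h)
      field_simp
      linear_combination h''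
  obtain ⟨x, -, hx⟩ := Finset.exists_mem_notMem_of_card_lt_card
    (s := ({0, -1} : Finset F) ∪ Finset.univ.filter fun x : F => a * x ^ 2 + b * x + c = 0) (t := Finset.univ) (by
      have := Finset.card_union_le ({0, -1} : Finset F) (Finset.univ.filter fun x : F => a * x ^ 2 + b * x + c = 0)
      have := Finset.card_le_two (a := (0 : F)) (b := -1)
      rw [Finset.card_univ]; omega)
  simp only [Finset.mem_union, Finset.mem_insert, Finset.mem_singleton, Finset.mem_filter, Finset.mem_univ, true_and,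
    not_or] at hx
  exact ⟨x, hx.1.1, hx.1.2, hx.2⟩

/-- the torus gives the coordinate pseudo-reflections -/
theorem Rf.of_single (hNl : ∀ (σ : Equiv.Perm ι) (d : ι → Fˣ), σ l = l →
      (mon σ d : GL ι F) ∈ specialLinear ι F → mon σ d ∈ M) (ν : Fˣ) {x : ι} (hx : x ≠ l) :
    Rf M ν l (Pi.single x 1) (Pi.single x 1) := by
  refine ⟨Pi.single_eq_of_ne hx.symm _, Pi.single_eq_of_ne hx.symm _,
    by rw [single_dotProduct, Pi.single_eq_same, one_mul], tor x l ν, hNl _ _ rfl (tor_mem_SL hx ν), fun y => ?_⟩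
  funext k
  rw [tor_mulVec hx, single_dotProduct, one_mul, Pi.add_apply, Pi.add_apply, Pi.smul_apply, smul_eq_mul]
  split_ifs with h1 h2
  · subst h1; rw [Pi.single_eq_same, Pi.single_eq_of_ne hx]; ring
  · subst h2; rw [Pi.single_eq_of_ne hx.symm, Pi.single_eq_same]; ring
  · rw [Pi.single_eq_of_ne h1, Pi.single_eq_of_ne h2]; ring

/-- a weight vector with sum zero whose inverses do not sum to zero -/
theorem exists_tuple [Fintype F] (h5 : 5 ≤ Fintype.card F) : ∀ m, 3 ≤ m → ∃ x : Fin m → F,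
    (∀ i, x i ≠ 0) ∧ (∑ i, x i) = 0 ∧ (∑ i, (x i)⁻¹) ≠ 0 ∧ ∃ i j, x i ≠ x j := by
  classical
  intro m
  induction m using Nat.strong_induction_on with
  | _ m ih =>
    intro hm
    have hpick : ∀ X : Finset F, X.card ≤ 4 → ∃ x, x ∉ X := fun X hX => by
      obtain ⟨x, -, hx⟩ := Finset.exists_mem_notMem_of_card_lt_card (s := X) (t := Finset.univ)
        (by rw [Finset.card_univ]; omega)
      exact ⟨x, hx⟩
    obtain rfl | rfl | ⟨m', rfl, hm'⟩ : m = 3 ∨ m = 4 ∨ ∃ m', m = m' + 1 + 1 ∧ 3 ≤ m' := by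
      by_cases h : m ≤ 4
      · omega
      · exact Or.inr (Or.inr ⟨m - 2, by omega, by omega⟩)
    · obtain ⟨x, hx0, hx1, hx⟩ := exists_avoid h5 (a := (1 : F)) (b := 1) (c := 1) one_ne_zero
      have hx' : -1 - x ≠ 0 := fun e => hx1 (by linear_combination -e)
      refine ⟨![1, x, -1 - x], ?_, ?_, ?_, ?_⟩
      · intro i; fin_cases i <;> simp [hx0, hx']
      · simp [Fin.sum_univ_three]
      · intro e
        simp [Fin.sum_univ_three] at e
        field_simp at e
        exact hx (by linear_combination -e)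
      · by_contra hcon
        push Not at hcon
        have e1 : (1 : F) = x := hcon 0 1
        have e2 : (1 : F) = -1 - x := hcon 0 2
        exact hx (by subst e1; linear_combination e2)
    · obtain ⟨c, hc⟩ := hpick {0, -1, 1} (le_trans Finset.card_le_three (by norm_num))
      simp only [Finset.mem_insert, Finset.mem_singleton, not_or] at hc
      obtain ⟨d, hd⟩ := hpick {0, -1, -c, -1 - c} Finset.card_le_four
      simp only [Finset.mem_insert, Finset.mem_singleton, not_or] at hd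
      have he : -1 - c - d ≠ 0 := fun e => hd.2.2.2 (by linear_combination -e)
      refine ⟨![1, c, d, -1 - c - d], ?_, ?_, ?_, 0, 1, by simpa using Ne.symm hc.2.2⟩
      · intro i; fin_cases i <;> simp [hc.1, hd.1, he]
      · simp [Fin.sum_univ_four]
      · intro e
        simp [Fin.sum_univ_four] at e
        have hc0 := hc.1
        have hd0 := hd.1
        field_simp at e
        exact mul_ne_zero (mul_ne_zero (fun e => hc.2.1 (by linear_combination e) : 1 + c ≠ 0)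
          (fun e => hd.2.1 (by linear_combination e) : d + 1 ≠ 0))
          (fun e => hd.2.2.1 (by linear_combination e) : d + c ≠ 0) (by linear_combination -e)
    · obtain ⟨x, hx, hs, hi, i, j, hij⟩ := ih m' (by omega) hm'
      refine ⟨Fin.cons 1 (Fin.cons (-1) x), ?_, ?_, ?_, i.succ.succ, j.succ.succ, by simpa using hij⟩
      · intro k
        refine Fin.cases ?_ (fun k => Fin.cases ?_ (fun k => ?_) k) k
        · simp
        · simp
        · simpa using hx k
      · simp [Fin.sum_univ_succ, hs]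
      · simpa [Fin.sum_univ_succ] using hi

/-- weights on a set with prescribed sums -/
theorem exists_weights [Fintype F] (h5 : 5 ≤ Fintype.card F) (S : Finset ι) (h3 : 3 ≤ S.card) {a : ι → F}
    (ha : ∀ i ∈ S, a i ≠ 0) : ∃ x : ι → F, (∀ i, x i ≠ 0) ∧ (∑ i ∈ S, x i) = 0 ∧
      (∑ i ∈ S, a i / x i) ≠ 0 ∧ ∃ i ∈ S, ∃ j ∈ S, x i ≠ x j := by
  classical
  obtain ⟨x₀, hx₀, hs, hi, i₀, j₀, hij₀⟩ := exists_tuple h5 S.card h3
  obtain ⟨x, hxd⟩ : ∃ x : Equiv.Perm {i // i ∈ S} → {i // i ∈ S} → F, x = fun σ i => x₀ (S.equivFin (σ i)) :=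
    ⟨_, rfl⟩
  have hsum : ∀ (σ : Equiv.Perm {i // i ∈ S}) (f : F → F), (∑ i, f (x σ i)) = ∑ k, f (x₀ k) := fun σ f => by
    rw [hxd]
    exact (σ.trans S.equivFin).sum_comp fun k => f (x₀ k)
  obtain ⟨σ, hσ⟩ : ∃ σ, (∑ i : {i // i ∈ S}, a i / x σ i) ≠ 0 := by
    by_contra hcon
    push Not at hcon
    have heq : ∀ i j : {i // i ∈ S}, a i = a j := by
      intro i j
      rcases eq_or_ne i j with rfl | hij
      · rfl
      -- a permutation separating the two places
      obtain ⟨σ, hσ⟩ : ∃ σ : Equiv.Perm {i // i ∈ S}, x σ i ≠ x σ j := by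
        have h2 : Equiv.swap i (S.equivFin.symm i₀) j ≠ S.equivFin.symm i₀ := fun e =>
          hij ((Equiv.swap i (S.equivFin.symm i₀)).injective ((Equiv.swap_apply_left _ _).trans e.symm))
        refine ⟨Equiv.swap (Equiv.swap i (S.equivFin.symm i₀) j) (S.equivFin.symm j₀) *
          Equiv.swap i (S.equivFin.symm i₀), ?_⟩
        rw [hxd]
        simp only [Equiv.Perm.mul_apply, Equiv.swap_apply_left]
        rw [Equiv.swap_apply_of_ne_of_ne h2.symm (fun e => hij₀ (congrArg x₀ (S.equivFin.symm.injective e))),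
          Equiv.apply_symm_apply, Equiv.apply_symm_apply]
        exact hij₀
      have h1 := hcon σ
      have h2 := hcon (σ * Equiv.swap i j)
      rw [← Finset.add_sum_erase _ _ (Finset.mem_univ i),
        ← Finset.add_sum_erase (Finset.univ.erase i) _ (a := j) (by simp [hij.symm])] at h1 h2
      rw [Finset.sum_congr rfl (g := fun k : {i // i ∈ S} => a k / x σ k) fun k hk => by
        simp only [Finset.mem_erase] at hk
        rw [hxd]; simp only [Equiv.Perm.mul_apply, Equiv.swap_apply_of_ne_of_ne hk.2.1 hk.1]] at h2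
      have h3 : x (σ * Equiv.swap i j) i = x σ j ∧ x (σ * Equiv.swap i j) j = x σ i := by
        rw [hxd]; simp
      rw [h3.1, h3.2] at h2
      have hxi : x σ i ≠ 0 := by rw [hxd]; exact hx₀ _
      have hxj : x σ j ≠ 0 := by rw [hxd]; exact hx₀ _
      have h4 : (a i - a j) * (x σ j - x σ i) = 0 := by
        have h5 : a i / x σ i + a j / x σ j - (a i / x σ j + a j / x σ i) = 0 := by linear_combination h1 - h2
        field_simp at h5
        linear_combination h5
      exact sub_eq_zero.1 ((mul_eq_zero.1 h4).resolve_right (sub_ne_zero.2 hσ.symm))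
    have i₁ : {i // i ∈ S} := S.equivFin.symm i₀
    have h1 := hcon 1
    rw [Finset.sum_congr rfl (g := fun i => a i₁ * (x 1 i)⁻¹) fun i _ => by rw [heq i i₁, div_eq_mul_inv],
      ← Finset.mul_sum, hsum 1 fun t => t⁻¹] at h1
    exact mul_ne_zero (ha _ i₁.2) hi h1
  refine ⟨fun i => if h : i ∈ S then x σ ⟨i, h⟩ else 1, fun i => ?_, ?_, ?_, ?_⟩
  · dsimp only
    split_ifs
    · rw [hxd]; exact hx₀ _
    · exact one_ne_zero
  · rw [← Finset.sum_coe_sort S, Finset.sum_congr rfl fun (i : {i // i ∈ S}) _ => dif_pos i.2]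
    exact (hsum σ id).trans hs
  · rw [← Finset.sum_coe_sort S]
    refine fun e => hσ ?_
    rw [← e]
    exact Finset.sum_congr rfl fun i _ => by simp
  · refine ⟨_, (σ.symm (S.equivFin.symm i₀)).2, _, (σ.symm (S.equivFin.symm j₀)).2, ?_⟩
    rw [hxd]
    simpa using hij₀

/-- the pseudo-reflection is one-sided somewhere -/
theorem elem_of_one_sided (hNl : ∀ (σ : Equiv.Perm ι) (d : ι → Fˣ), σ l = l →
      (mon σ d : GL ι F) ∈ specialLinear ι F → mon σ d ∈ M) (hν : ν ≠ 1) (h : Rf M ν l u α) {x : ι}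
    (hx : (u x ≠ 0 ∧ α x = 0) ∨ (u x = 0 ∧ α x ≠ 0)) : Elem M l := by
  have hxl : x ≠ l := fun e => hx.elim (fun h' => h'.1 (e ▸ h.1)) fun h' => h'.2 (e ▸ h.2.1)
  have hx' := Rf.of_single hNl ν hxl
  have hν1 : (ν : F) - 1 ≠ 0 := sub_ne_zero.2 fun e => hν (Units.ext e)
  rcases hx with ⟨hu, hα⟩ | ⟨hu, hα⟩
  · have h1 := hx'.has h (by rw [dotProduct_single, hα, zero_mul])
    refine elementary_of_transvection hNl hν h1 hxl.symm (by rw [Pi.single_eq_same]; exact one_ne_zero)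
      (by rw [Pi.smul_apply, hα, smul_zero]) (fun e => ?_) (Pi.single_eq_of_ne hxl.symm _)
      (by rw [Pi.smul_apply, h.2.1, smul_zero])
    rw [single_dotProduct, one_mul] at e
    rcases smul_eq_zero.1 e with e | e
    · exact div_ne_zero (mul_ne_zero (mul_ne_zero hν1 hν1) hu) ν.ne_zero e
    · exact one_ne_zero (h.2.2.1.symm.trans (by rw [e, zero_dotProduct]))
  · have h1 := h.has hx' (by rw [single_dotProduct, hu, mul_zero])
    obtain ⟨i, hi⟩ : ∃ i, u i ≠ 0 := by
      by_contra hcon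
      push Not at hcon
      exact one_ne_zero (h.2.2.1.symm.trans (by rw [show u = 0 from funext hcon, dotProduct_zero]))
    refine elementary_of_transvection hNl hν h1 (i := i) (fun e => hi (e ▸ h.1)) hi ?_ (fun e => ?_) h.1
      (by rw [Pi.smul_apply, Pi.single_eq_of_ne hxl.symm, smul_zero])
    · rw [Pi.smul_apply, Pi.single_eq_of_ne (fun e : i = x => hi (e ▸ hu)), smul_zero]
    · have e1 := congrFun e x
      rw [Pi.smul_apply, Pi.single_eq_same, dotProduct_single, Pi.zero_apply, smul_eq_mul] at e1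
      exact mul_ne_zero (div_ne_zero (mul_ne_zero (mul_ne_zero hν1 hν1) (by simpa using hα)) ν.ne_zero) one_ne_zero e1

/-- at least three positions -/
theorem elem_of_three [Fintype F] (hNl : ∀ (σ : Equiv.Perm ι) (d : ι → Fˣ), σ l = l →
      (mon σ d : GL ι F) ∈ specialLinear ι F → mon σ d ∈ M) (h5 : 5 ≤ Fintype.card F) (hν : ν ≠ 1)
    (h : Rf M ν l u α) {W : Finset ι} (hW : ∀ x, x ∉ W → u x = 0 ∧ α x = 0)
    (hWne : ∀ x ∈ W, u x ≠ 0 ∧ α x ≠ 0) (hlW : l ∉ W) (h3 : 3 ≤ W.card) : Elem M l := by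
  classical
  have hP : ∀ p ∈ W, α p * u p ≠ 0 := fun p hp => mul_ne_zero (hWne p hp).2 (hWne p hp).1
  obtain ⟨X, hX0, hXs, hXi, i, hi, j, hj, hXij⟩ :=
    exists_weights h5 W h3 (a := fun p => (α p * u p) ^ 2) fun p hp => pow_ne_zero 2 (hP p hp)
  set d : ι → Fˣ := fun p => if hp : p ∈ W then Units.mk0 (α p * u p / X p) (div_ne_zero (hP p hp) (hX0 p)) else 1
    with hd
  obtain ⟨u', α', h', hmv⟩ := h.move hNl (π := 1) rfl d
  have hdv : ∀ p ∈ W, (d p : F) = α p * u p / X p := fun p hp => by simp [hd, dif_pos hp]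
  have hαW : ∀ p ∈ W, α' p * u p = X p := fun p hp => by
    have e : α' p = α p * (d p : F)⁻¹ := (hmv p).2
    rw [e, hdv p hp, inv_div]
    have := hWne p hp
    field_simp [this.1, this.2]
  have hs : α' ⬝ᵥ u = 0 := by
    rw [dotProduct, ← Finset.sum_subset (Finset.subset_univ W) fun x _ hx => by rw [(hW x hx).1, mul_zero],
      Finset.sum_congr rfl hαW, hXs]
  have hs' : α ⬝ᵥ u' ≠ 0 := by
    rw [dotProduct, ← Finset.sum_subset (Finset.subset_univ W) fun x _ hx => by rw [(hW x hx).2, zero_mul],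
      Finset.sum_congr rfl (g := fun p => (α p * u p) ^ 2 / X p) fun p hp => by
        have e : u' p = d p * u p := (hmv p).1
        rw [e, hdv p hp]; ring]
    exact hXi
  have hν1 : (ν : F) - 1 ≠ 0 := sub_ne_zero.2 fun e => hν (Units.ext e)
  have hT := h.has h' hs
  obtain ⟨K, hK⟩ : ∃ K, K = ((ν : F) - 1) * ((ν : F) - 1) * (α ⬝ᵥ u') / ν := ⟨_, rfl⟩
  rw [← hK] at hT
  have hK0 : K ≠ 0 := hK ▸ div_ne_zero (mul_ne_zero (mul_ne_zero hν1 hν1) hs') ν.ne_zero
  -- exchange two positions fixing the centre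
  have hij : i ≠ j := fun e => hXij (e ▸ rfl)
  have hil : i ≠ l := fun e => hlW (e ▸ hi)
  have hjl : j ≠ l := fun e => hlW (e ▸ hj)
  obtain ⟨k, hk, hkX⟩ := Finset.exists_mem_notMem_of_card_lt_card (s := {i, j}) (t := W)
    (lt_of_le_of_lt Finset.card_le_two (by omega))
  simp only [Finset.mem_insert, Finset.mem_singleton, not_or] at hkX
  set e : ι → Fˣ := Function.update (Function.update (Function.update (fun _ => (1 : Fˣ)) i
    (Units.mk0 (u j / u i) (div_ne_zero (hWne j hj).1 (hWne i hi).1))) j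
    (Units.mk0 (u i / u j) (div_ne_zero (hWne i hi).1 (hWne j hj).1))) l (-1) with he
  have hy : (mon (Equiv.swap i j) e : GL ι F) ∈ M := by
    refine hNl _ _ (Equiv.swap_apply_of_ne_of_ne hil.symm hjl.symm) (mon_mem_SL ?_)
    rw [Equiv.Perm.sign_swap hij, ← Units.coe_prod, he, Finset.prod_update_of_mem (Finset.mem_univ l),
      Finset.prod_update_of_mem (by simp [hjl]), Finset.prod_update_of_mem (by simp [hij, hil]), Finset.prod_const_one,
      mul_one]
    have := (hWne i hi).1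
    have := (hWne j hj).1
    push_cast
    field_simp
    simp [*]
  have hel : ∀ m, m ≠ i → m ≠ j → m ≠ l → e m = 1 := fun m h1 h2 h3 => by
    rw [he, Function.update_of_ne h3, Function.update_of_ne h2, Function.update_of_ne h1]
  have hei : (e i : F) = u j / u i := by
    rw [he, Function.update_of_ne hil, Function.update_of_ne hij, Function.update_self]; rfl
  have hej : (e j : F) = u i / u j := by
    rw [he, Function.update_of_ne hjl, Function.update_self]; rfl
  have hyu : ((mon (Equiv.swap i j) e : GL ι F) : Matrix ι ι F) *ᵥ u = u := funext fun m => by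
    rw [mon_mulVec, Equiv.symm_swap]
    have := (hWne i hi).1
    have := (hWne j hj).1
    rcases eq_or_ne m i with rfl | hmi
    · rw [Equiv.swap_apply_left, hej]; field_simp
    rcases eq_or_ne m j with rfl | hmj
    · rw [Equiv.swap_apply_right, hei]; field_simp
    rw [Equiv.swap_apply_of_ne_of_ne hmi hmj]
    rcases eq_or_ne m l with rfl | hml
    · rw [h.1, mul_zero]
    · rw [hel m hmi hmj hml, Units.val_one, one_mul]
  have h2 := hT.conj hy
  rw [hyu] at h2
  refine elementary_of_transvection hNl hν (h2.add_right hT.neg) (i := k) (fun e => hlW (e ▸ hk)) (hWne k hk).1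
    ?_ (fun e0 => ?_) h.1 ?_
  · rw [Pi.add_apply, Pi.neg_apply, mon_vecMul_inv, Equiv.symm_swap, Equiv.swap_apply_of_ne_of_ne hkX.1 hkX.2,
      hel k hkX.1 hkX.2 (fun e => hlW (e ▸ hk)), Units.val_one, inv_one, mul_one, add_neg_cancel]
  · have e1 := congrFun e0 i
    rw [Pi.add_apply, Pi.neg_apply, mon_vecMul_inv, Equiv.symm_swap, Equiv.swap_apply_left, hej, Pi.smul_apply,
      Pi.smul_apply, Pi.zero_apply, smul_eq_mul, smul_eq_mul, inv_div] at e1
    refine mul_ne_zero hK0 (sub_ne_zero.2 hXij.symm) ?_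
    rw [← hαW i hi, ← hαW j hj]
    have := (hWne i hi).1
    field_simp at e1
    linear_combination e1
  · rw [Pi.add_apply, Pi.neg_apply, mon_vecMul_inv, Equiv.symm_swap,
      Equiv.swap_apply_of_ne_of_ne hil.symm hjl.symm, Pi.smul_apply, h'.2.1, smul_zero, zero_mul, neg_zero, add_zero]

/-- two positions grow -/
theorem grow_step (hNl : ∀ (σ : Equiv.Perm ι) (d : ι → Fˣ), σ l = l →
      (mon σ d : GL ι F) ∈ specialLinear ι F → mon σ d ∈ M) (hn : 4 ≤ Fintype.card ι)
    (hν : ν ≠ 1) (hν2 : ν ^ 2 ≠ 1) (h : Rf M ν l u α) {W : Finset ι} (hW : ∀ x, x ∉ W → u x = 0 ∧ α x = 0)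
    (hWne : ∀ x ∈ W, u x ≠ 0 ∧ α x ≠ 0) (hlW : l ∉ W) (h2 : W.card = 2) :
    Elem M l ∨ ∃ (u' α' : ι → F) (W' : Finset ι), Rf M ν l u' α' ∧ (∀ x, x ∉ W' → u' x = 0 ∧ α' x = 0) ∧
      (∀ x ∈ W', u' x ≠ 0 ∧ α' x ≠ 0) ∧ l ∉ W' ∧ W'.card + 1 = 2 * W.card := by
  classical
  obtain ⟨r, hrW⟩ : W.Nonempty := Finset.card_pos.1 (by omega)
  have hsub : ({r} : Finset ι) ⊆ W := Finset.singleton_subset_iff.2 hrW
  have hWr := Finset.card_sdiff_add_card_eq_card hsub
  rw [Finset.card_singleton] at hWr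
  obtain ⟨π, hπl, hπr, hout⟩ := exists_move_perm W {r} l hlW hsub (by omega)
  have hπr' : π r = r := hπr r (Finset.mem_singleton_self r)
  obtain ⟨u', α', h', hmv⟩ := h.move hNl hπl (fun _ => 1)
  have hu' : ∀ x, u' (π x) = u x := fun x => by simp [(hmv x).1]
  have hα' : ∀ x, α' (π x) = α x := fun x => by simp [(hmv x).2]
  have hs : α ⬝ᵥ u' = α r * u r := by
    rw [dot_moved hsub hout (fun x hx => (hW x hx).2) (fun x hx => (hW x hx).1) (c := fun _ => 1)
      (fun x => by rw [hu', one_mul]), Finset.sum_singleton, hπr', one_mul]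
  have hs' : α' ⬝ᵥ u = α r * u r := by
    rw [dotProduct_comm, dot_moved hsub hout (fun x hx => (hW x hx).1) (fun x hx => (hW x hx).2) (c := fun _ => 1)
      (fun x => by rw [hα', one_mul]), Finset.sum_singleton, hπr', one_mul, mul_comm]
  have hP : α r * u r ≠ 0 := mul_ne_zero (hWne r hrW).2 (hWne r hrW).1
  have hν0 := ν.ne_zero
  have hν1 : (ν : F) - 1 ≠ 0 := sub_ne_zero.2 fun e => hν (Units.ext e)
  have hν1' : (ν : F)⁻¹ - 1 ≠ 0 := sub_ne_zero.2 fun e => hν (Units.ext (inv_eq_one.1 e))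
  have hg := h.grow h'
  rw [hs, hs'] at hg
  set U : ι → F := u + (((ν : F) - 1) * (α r * u r)) • u' with hU
  set A : ι → F := α + (((ν : F)⁻¹ - 1) * (α r * u r)) • α' with hA
  set T : Finset ι := (W \ {r}).image π with hT
  have hTW : Disjoint W T := Finset.disjoint_left.2 fun x hx hxT => by
    obtain ⟨y, hy, rfl⟩ := Finset.mem_image.1 hxT
    exact hout y hy hx
  have hcard : (W ∪ T).card + 1 = 2 * W.card := by
    rw [Finset.card_union_of_disjoint hTW, hT, Finset.card_image_of_injective _ π.injective]; omega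
  have hlT : l ∉ W ∪ T := by
    rw [Finset.mem_union, not_or]
    refine ⟨hlW, fun hl => ?_⟩
    obtain ⟨y, hy, e⟩ := Finset.mem_image.1 hl
    rw [← hπl] at e
    exact hlW (by rw [← π.injective e]; exact (Finset.mem_sdiff.1 hy).1)
  have hval : ∀ x, (x ∉ W ∪ T → U x = 0 ∧ A x = 0) ∧ (x ∈ W ∪ T → x ≠ r → U x ≠ 0 ∧ A x ≠ 0) := by
    intro x
    obtain ⟨y, rfl⟩ := π.surjective x
    simp only [hU, hA, Pi.add_apply, Pi.smul_apply, hu', hα', smul_eq_mul, Finset.mem_union, hT]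
    by_cases hy : y ∈ W
    · by_cases hyr : y = r
      · subst hyr
        rw [hπr']
        exact ⟨fun hx => absurd (Or.inl hrW) hx, fun _ hne => absurd rfl hne⟩
      · have hyd : y ∈ W \ {r} := Finset.mem_sdiff.2 ⟨hy, by simpa using hyr⟩
        rw [(hW _ (hout y hyd)).1, (hW _ (hout y hyd)).2, zero_add, zero_add]
        exact ⟨fun hx => absurd (Or.inr (Finset.mem_image_of_mem _ hyd)) hx, fun _ _ =>
          ⟨mul_ne_zero (mul_ne_zero hν1 hP) (hWne y hy).1, mul_ne_zero (mul_ne_zero hν1' hP) (hWne y hy).2⟩⟩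
    · rw [(hW y hy).1, (hW y hy).2, mul_zero, mul_zero, add_zero, add_zero]
      refine ⟨fun hx => hW _ fun hm => hx (Or.inl hm), fun hx _ => hWne _ (hx.resolve_right fun hm => ?_)⟩
      obtain ⟨z, hz, e⟩ := Finset.mem_image.1 hm
      exact hy (by rw [← π.injective e]; exact (Finset.mem_sdiff.1 hz).1)
  obtain ⟨q, hq⟩ : (W \ {r}).Nonempty := Finset.card_pos.1 (by omega)
  obtain ⟨hqW, hqr⟩ := Finset.mem_sdiff.1 hq
  rw [Finset.mem_singleton] at hqr
  obtain ⟨hUq, hAq⟩ := (hval q).2 (Finset.mem_union_left _ hqW) hqr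
  have hUr : U r = u r * (1 + ((ν : F) - 1) * (α r * u r)) := by
    rw [hU, Pi.add_apply, Pi.smul_apply, smul_eq_mul]
    conv_lhs => arg 2; arg 2; rw [← hπr', hu']
    ring
  have hAr : A r = α r * (1 + ((ν : F)⁻¹ - 1) * (α r * u r)) := by
    rw [hA, Pi.add_apply, Pi.smul_apply, smul_eq_mul]
    conv_lhs => arg 2; arg 2; rw [← hπr', hα']
    ring
  have hnot : ¬ (1 + ((ν : F) - 1) * (α r * u r) = 0 ∧ 1 + ((ν : F)⁻¹ - 1) * (α r * u r) = 0) := by
    rintro ⟨e1, e2⟩
    have e3 : ((ν : F) - (ν : F)⁻¹) * (α r * u r) = 0 := by linear_combination e1 - e2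
    have e4 := (mul_eq_zero.1 e3).resolve_right hP
    refine hν2 (Units.ext ?_)
    rw [Units.val_pow_eq_pow_val, Units.val_one, sq]
    nth_rewrite 1 [sub_eq_zero.1 e4]
    exact inv_mul_cancel₀ hν0
  by_cases hU0 : 1 + ((ν : F) - 1) * (α r * u r) = 0
  · refine Or.inl (elem_of_one_sided hNl hν hg (x := r) (Or.inr ⟨?_, ?_⟩))
    · rw [hUr, hU0, mul_zero]
    · rw [hAr]; exact mul_ne_zero (hWne r hrW).2 fun e => hnot ⟨hU0, e⟩
  by_cases hA0 : 1 + ((ν : F)⁻¹ - 1) * (α r * u r) = 0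
  · refine Or.inl (elem_of_one_sided hNl hν hg (x := r) (Or.inl ⟨?_, ?_⟩))
    · rw [hUr]; exact mul_ne_zero (hWne r hrW).1 hU0
    · rw [hAr, hA0, mul_zero]
  refine Or.inr ⟨U, A, W ∪ T, hg, fun x hx => (hval x).1 hx, fun x hx => ?_, hlT, hcard⟩
  rcases eq_or_ne x r with rfl | hne
  · rw [hUr, hAr]
    exact ⟨mul_ne_zero (hWne x hrW).1 hU0, mul_ne_zero (hWne x hrW).2 hA0⟩
  · exact (hval x).2 hx hne

/-- pseudo-reflections with a non-coordinate centre -/
theorem elem_of_refl [Fintype F] (hNl : ∀ (σ : Equiv.Perm ι) (d : ι → Fˣ), σ l = l →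
      (mon σ d : GL ι F) ∈ specialLinear ι F → mon σ d ∈ M) (h5 : 5 ≤ Fintype.card F) (hn : 4 ≤ Fintype.card ι)
    (hν : ν ≠ 1) (hν2 : ν ^ 2 ≠ 1) (h : Rf M ν l u α) {a b : ι} (hab : a ≠ b) (hua : u a ≠ 0) (hub : u b ≠ 0) :
    Elem M l := by
  classical
  by_cases hside : ∃ x, (u x ≠ 0 ∧ α x = 0) ∨ (u x = 0 ∧ α x ≠ 0)
  · obtain ⟨x, hx⟩ := hside
    exact elem_of_one_sided hNl hν h hx
  push Not at hside
  set S : Finset ι := Finset.univ.filter (fun x => u x ≠ 0) with hS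
  have hSne : ∀ x ∈ S, u x ≠ 0 ∧ α x ≠ 0 := fun x hx =>
    ⟨(Finset.mem_filter.1 hx).2, (hside x).1 (Finset.mem_filter.1 hx).2⟩
  have hS0 : ∀ x, x ∉ S → u x = 0 ∧ α x = 0 := fun x hx => by
    have hx0 : u x = 0 := by simpa [hS] using hx
    exact ⟨hx0, (hside x).2 hx0⟩
  have hlS : l ∉ S := fun hl => (Finset.mem_filter.1 hl).2 h.1
  have h2 : 2 ≤ S.card := by
    rw [← Finset.card_pair hab]
    refine Finset.card_le_card fun x hx => ?_
    rw [Finset.mem_insert, Finset.mem_singleton] at hx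
    rcases hx with rfl | rfl <;> simp [hS, hua, hub]
  by_cases h3 : 3 ≤ S.card
  · exact elem_of_three hNl h5 hν h hS0 hSne hlS h3
  rcases grow_step hNl hn hν hν2 h hS0 hSne hlS (by omega) with e | ⟨u', α', W', h', hW', hne', hl', hc'⟩
  · exact e
  exact elem_of_three hNl h5 hν h' hW' hne' hl' (by omega)

/-! ### Working modulo the transvections centred at `e_l` -/

/-- the elements stabilising the line of `e_l` that agree modulo `e_l` with an element of `M` -/
def modLine (M : Subgroup (GL ι F)) (l : ι) : Subgroup (GL ι F) where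
  carrier := {h | ∃ c : F, c ≠ 0 ∧ (h : Matrix ι ι F) *ᵥ Pi.single l 1 = Pi.single l c ∧ ∃ k ∈ M,
    (k : Matrix ι ι F) *ᵥ Pi.single l 1 = Pi.single l c ∧
      ∀ x, ∃ t : F, (k : Matrix ι ι F) *ᵥ x = (h : Matrix ι ι F) *ᵥ x + Pi.single l t}
  one_mem' := ⟨1, one_ne_zero, by rw [Units.val_one, one_mulVec], 1, M.one_mem, by rw [Units.val_one, one_mulVec],
    fun x => ⟨0, by rw [Pi.single_zero, add_zero]⟩⟩
  mul_mem' := by
    rintro a b ⟨c, hc, hal, k, hk, hkl, hka⟩ ⟨d, hd, hbl, m, hm, hml, hmb⟩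
    have hs : ∀ (g : GL ι F) (c s : F), (g : Matrix ι ι F) *ᵥ Pi.single l 1 = Pi.single l c →
        (g : Matrix ι ι F) *ᵥ Pi.single l s = Pi.single l (s * c) := fun g c s hg => by
      rw [show (Pi.single l s : ι → F) = s • Pi.single l 1 by rw [← Pi.single_smul, smul_eq_mul, mul_one],
        Matrix.mulVec_smul, hg, ← Pi.single_smul, smul_eq_mul]
    refine ⟨d * c, mul_ne_zero hd hc, by rw [gl_mul_mulVec, hbl, hs a c d hal], k * m, M.mul_mem hk hm,
      by rw [gl_mul_mulVec, hml, hs k c d hkl], fun x => ?_⟩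
    obtain ⟨t, ht⟩ := hmb x
    obtain ⟨s, hs'⟩ := hka ((b : Matrix ι ι F) *ᵥ x)
    exact ⟨s + t * c, by rw [gl_mul_mulVec, gl_mul_mulVec, ht, Matrix.mulVec_add, hs', hs k c t hkl, Pi.single_add,
      add_assoc]⟩
  inv_mem' := by
    rintro a ⟨c, hc, hal, k, hk, hkl, hka⟩
    have hinv : ∀ g : GL ι F, (g : Matrix ι ι F) *ᵥ Pi.single l 1 = Pi.single l c → ∀ s : F,
        ((g⁻¹ : GL ι F) : Matrix ι ι F) *ᵥ Pi.single l s = Pi.single l (s / c) := fun g hg s => by
      have : (g : Matrix ι ι F) *ᵥ Pi.single l (s / c) = Pi.single l s := by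
        rw [show (Pi.single l (s / c) : ι → F) = (s / c) • Pi.single l 1 by
          rw [← Pi.single_smul, smul_eq_mul, mul_one], Matrix.mulVec_smul, hg, ← Pi.single_smul, smul_eq_mul,
          div_mul_cancel₀ _ hc]
      rw [← this, gl_inv_mulVec]
    refine ⟨1 / c, div_ne_zero one_ne_zero hc, hinv a hal 1, k⁻¹, M.inv_mem hk, hinv k hkl 1, fun x => ?_⟩
    obtain ⟨t, ht⟩ := hka (((a⁻¹ : GL ι F) : Matrix ι ι F) *ᵥ x)
    rw [gl_mulVec_inv] at ht
    refine ⟨-t / c, ?_⟩
    have h1 := congrArg (fun w => ((k⁻¹ : GL ι F) : Matrix ι ι F) *ᵥ w) ht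
    simp only [gl_inv_mulVec, Matrix.mulVec_add, hinv k hkl] at h1
    rw [h1, add_assoc, ← Pi.single_add, neg_div, add_neg_cancel, Pi.single_zero, add_zero]

theorem modLine_mon {l : ι} (hN : ∀ (σ : Equiv.Perm ι) (d : ι → Fˣ),
      (mon σ d : GL ι F) ∈ specialLinear ι F → mon σ d ∈ M) (σ : Equiv.Perm ι) (d : ι → Fˣ) (hσ : σ l = l)
    (hd : (mon σ d : GL ι F) ∈ specialLinear ι F) : (mon σ d : GL ι F) ∈ modLine M l :=
  ⟨d l, (d l).ne_zero, by rw [mon_mulVec_single, hσ, mul_one], mon σ d, hN σ d hd,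
    by rw [mon_mulVec_single, hσ, mul_one], fun x => ⟨0, by rw [Pi.single_zero, add_zero]⟩⟩

/-- an elementary root group modulo `e_l` gives all -/
theorem fullSub_of_modLine (hN : ∀ (σ : Equiv.Perm ι) (d : ι → Fˣ),
      (mon σ d : GL ι F) ∈ specialLinear ι F → mon σ d ∈ M) (hn : 4 ≤ Fintype.card ι) (hν : ν ≠ 1) (hν2 : ν ^ 2 ≠ 1)
    {l : ι} (h : Elem (modLine M l) l) : fullSub M = ⊤ := by
  classical
  by_contra hfull
  obtain ⟨i, j, hij, hil, hjl, hej⟩ := h
  refine hfull (fullSub_of_elementary hN hij.symm (fun a => ?_))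
  obtain ⟨h0, c, hc, hcl, k, hk, hkl, hkx⟩ := hej a
  -- the multiplier is one
  rw [tv_mulVec, smul_dotProduct, single_dotProduct, Pi.single_eq_of_ne hjl, mul_zero, smul_zero, zero_smul,
    add_zero] at hcl
  have hc1 : c = 1 := by
    have := congrFun hcl l
    rwa [Pi.single_eq_same, Pi.single_eq_same, eq_comm] at this
  subst hc1
  obtain ⟨φ, hφ⟩ : ∃ φ : ι → F, φ = fun b => (k : Matrix ι ι F) l b - (Pi.single l 1 : ι → F) b := ⟨_, rfl⟩
  have hkf : ∀ x, (k : Matrix ι ι F) *ᵥ x = x + (a * x j) • Pi.single i 1 + Pi.single l (φ ⬝ᵥ x) := by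
    intro x
    obtain ⟨t, ht⟩ := hkx x
    rw [tv_mulVec, smul_dotProduct, single_dotProduct, one_mul, smul_eq_mul] at ht
    rw [ht]
    congr 2
    have e := congrFun ht l
    rw [Pi.add_apply, Pi.add_apply, Pi.smul_apply, Pi.single_eq_of_ne hil.symm, smul_zero, add_zero,
      Pi.single_eq_same] at e
    have e2 : φ ⬝ᵥ x = ((k : Matrix ι ι F) *ᵥ x) l - x l := by
      rw [hφ, show (fun b => (k : Matrix ι ι F) l b - (Pi.single l 1 : ι → F) b) =
        (k : Matrix ι ι F) l - Pi.single l 1 from rfl, sub_dotProduct, single_dotProduct, one_mul]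
      rfl
    rw [e2, e]
    ring
  have hφl : φ l = 0 := by
    rw [hφ]
    have := congrFun hkl l
    rw [mulVec_single_col, Pi.single_eq_same] at this
    simp [this]
  by_cases hφ0 : φ = 0
  · refine ⟨h0, ?_⟩
    rwa [show tv (Pi.single i 1) (a • Pi.single j 1) h0 = k from gl_ext_vec fun x => by
      rw [hkf, hφ0, zero_dotProduct, Pi.single_zero, add_zero, tv_mulVec, smul_dotProduct, single_dotProduct, one_mul,
        smul_eq_mul]]
  -- conjugation by a torus element isolates the row of `l`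
  exfalso
  obtain ⟨s, -, hs⟩ := Finset.exists_mem_notMem_of_card_lt_card (s := ({i, j, l} : Finset ι)) (t := Finset.univ)
    (lt_of_le_of_lt Finset.card_le_three (by rw [Finset.card_univ]; omega))
  simp only [Finset.mem_insert, Finset.mem_singleton, not_or] at hs
  obtain ⟨D, hD⟩ : ∃ D : GL ι F, D = tor l s ν := ⟨_, rfl⟩
  have hls : l ≠ s := Ne.symm hs.2.2
  have hDM : D ∈ M := hD ▸ hN _ _ (tor_mem_SL hls ν)
  have hν0 := ν.ne_zero
  obtain ⟨ψ, hψ⟩ : ∃ ψ : ι → F, ψ = ((ν : F) - 1) • φ + Pi.single s (((ν : F) * ((ν : F) - 1)) * φ s) := ⟨_, rfl⟩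
  have hψl : ψ ⬝ᵥ Pi.single l 1 = 0 := by
    rw [dotProduct_single, mul_one, hψ, Pi.add_apply, Pi.smul_apply, hφl, Pi.single_eq_of_ne hls, smul_zero, add_zero]
  refine hfull (fullSub_of_centre hN hn hν (l := l) (φ := ψ) ⟨hψl, ?_⟩ (fun e => ?_))
  · have heq : k * tv (Pi.single l 1) ψ hψl = D * k * D⁻¹ := gl_ext_vec fun x => by
      obtain ⟨y, hy⟩ : ∃ y, y = ((D⁻¹ : GL ι F) : Matrix ι ι F) *ᵥ x := ⟨_, rfl⟩
      have hxy : x = (D : Matrix ι ι F) *ᵥ y := by rw [hy, gl_mulVec_inv]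
      have hye : ∀ m, x m = (if m = l then (ν : F) else if m = s then (ν : F)⁻¹ else 1) * y m := fun m => by
        rw [hxy, hD, tor_mulVec hls]
      have hys : y s = (ν : F) * x s := by
        rw [hye s, if_neg hs.2.2, if_pos rfl, mul_inv_cancel_left₀ hν0]
      have hφy : φ ⬝ᵥ y = φ ⬝ᵥ x + ((ν : F) - 1) * φ s * x s := by
        rw [show φ ⬝ᵥ x + ((ν : F) - 1) * φ s * x s = φ ⬝ᵥ (x + Pi.single s (((ν : F) - 1) * x s)) by
          rw [dotProduct_add, dotProduct_single]; ring]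
        refine Finset.sum_congr rfl fun m _ => ?_
        rw [Pi.add_apply]
        rcases eq_or_ne m l with rfl | hml
        · rw [hφl, zero_mul, zero_mul]
        rcases eq_or_ne m s with rfl | hms
        · rw [Pi.single_eq_same, hys]; ring
        · rw [Pi.single_eq_of_ne hms, add_zero, hye m, if_neg hml, if_neg hms, one_mul]
      rw [gl_mul_mulVec, gl_mul_mulVec (D * k), gl_mul_mulVec D, ← hy, hkf, hkf, tv_mulVec]
      funext m
      simp only [hD, tor_mulVec hls, Pi.add_apply, Pi.smul_apply, smul_eq_mul, dotProduct_add, dotProduct_smul,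
        dotProduct_single, hφl, hψ, add_dotProduct, smul_dotProduct, single_dotProduct, hφy, zero_mul, mul_zero,
        add_zero, Pi.single_eq_of_ne hjl, mul_one]
      rcases eq_or_ne m l with rfl | hml
      · rw [if_pos rfl, Pi.single_eq_same, Pi.single_eq_same, Pi.single_eq_same, Pi.single_eq_of_ne hil.symm,
          hye m, if_pos rfl]
        ring
      · simp only [if_neg hml, Pi.single_eq_of_ne hml, mul_zero, add_zero]
        rcases eq_or_ne m s with rfl | hms
        · rw [if_pos rfl, Pi.single_eq_of_ne hs.1, hys]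
          field_simp
          ring
        · rw [if_neg hms, one_mul, hye m, if_neg hml, if_neg hms, one_mul, hye j, if_neg hjl, if_neg (Ne.symm hs.2.1),
            one_mul]
    rw [show tv (Pi.single l 1) ψ hψl = k⁻¹ * (D * k * D⁻¹) by rw [← heq, inv_mul_cancel_left]]
    exact M.mul_mem (M.inv_mem hk) (M.mul_mem (M.mul_mem hDM hk) (M.inv_mem hDM))
  · refine hφ0 (funext fun m => ?_)
    have e1 := congrFun e m
    rw [hψ, Pi.add_apply, Pi.smul_apply, smul_eq_mul, Pi.zero_apply] at e1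
    have hν1 : (ν : F) - 1 ≠ 0 := sub_ne_zero.2 fun e => hν (Units.ext e)
    rcases eq_or_ne m s with rfl | hms
    · rw [Pi.single_eq_same] at e1
      have h2 : ((ν : F) - 1) * ((ν : F) + 1) ≠ 0 := fun e => hν2 (Units.ext (by
        rw [Units.val_pow_eq_pow_val, Units.val_one]; linear_combination e))
      exact (mul_eq_zero.1 (show ((ν : F) - 1) * ((ν : F) + 1) * φ m = 0 by linear_combination e1)).resolve_left h2
    · rw [Pi.single_eq_of_ne hms, add_zero] at e1
      exact (mul_eq_zero.1 e1).resolve_left hν1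

/-- the theorem for monomial groups -/
theorem fullSub_of_monomial [Fintype F] (hN : ∀ (σ : Equiv.Perm ι) (d : ι → Fˣ),
      (mon σ d : GL ι F) ∈ specialLinear ι F → mon σ d ∈ M) (h5 : 5 ≤ Fintype.card F) (hn : 6 ≤ Fintype.card ι)
    {g₀ : GL ι F} (hg₀ : g₀ ∈ M) (hdet : g₀ ∈ specialLinear ι F) (hgm₀ : ¬ Mono g₀) : fullSub M = ⊤ := by
  classical
  obtain ⟨ν, hν, hν2, -⟩ := exists_nu h5
  obtain ⟨J, g, hJ6, hgM', hg, hgm⟩ := exists_fixes_large (M := M ⊓ specialLinear ι F)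
    (fun σ d h => ⟨hN σ d h, h⟩) h5 (⟨hg₀, hdet⟩ : g₀ ∈ M ⊓ specialLinear ι F) hgm₀
  obtain ⟨hgM, hgS⟩ := Subgroup.mem_inf.1 hgM'
  obtain ⟨l, hl⟩ : J.Nonempty := Finset.card_pos.1 (by have := Finset.card_add_card_compl J; omega)
  obtain ⟨φ, hφ⟩ : ∃ φ : ι → F, φ = Pi.single l 1 ᵥ* ((g⁻¹ : GL ι F) : Matrix ι ι F) - Pi.single l 1 := ⟨_, rfl⟩
  have hφx : ∀ x, φ ⬝ᵥ ((g : Matrix ι ι F) *ᵥ x) = x l - ((g : Matrix ι ι F) *ᵥ x) l := fun x => by
    rw [hφ, sub_dotProduct, ← dotProduct_mulVec, gl_inv_mulVec, single_dotProduct, single_dotProduct, one_mul,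
      one_mul]
  have hφl : φ ⬝ᵥ Pi.single l 1 = 0 := by
    have := hφx (Pi.single l 1)
    rwa [hg l hl, Pi.single_eq_same, sub_self] at this
  obtain ⟨g', hg'def⟩ : ∃ g', g' = tv (Pi.single l 1) φ hφl * g := ⟨_, rfl⟩
  have hg'x : ∀ x, (g' : Matrix ι ι F) *ᵥ x
      = (g : Matrix ι ι F) *ᵥ x + Pi.single l (x l - ((g : Matrix ι ι F) *ᵥ x) l) := fun x => by
    rw [hg'def, gl_mul_mulVec, tv_mulVec, hφx, ← Pi.single_smul, smul_eq_mul, mul_one]
  have hg'l : (g' : Matrix ι ι F) *ᵥ Pi.single l 1 = Pi.single l 1 := by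
    rw [hg'x, hg l hl, Pi.single_eq_same, sub_self, Pi.single_zero, add_zero]
  have hrow : ∀ x, ((g' : Matrix ι ι F) *ᵥ x) l = x l := fun x => by
    rw [hg'x, Pi.add_apply, Pi.single_eq_same, add_sub_cancel]
  have hmem : g' ∈ modLine M l := ⟨1, one_ne_zero, hg'l, g, hgM, hg l hl,
    fun x => ⟨((g : Matrix ι ι F) *ᵥ x) l - x l, by
      rw [hg'x, add_assoc, ← Pi.single_add, sub_add_sub_cancel, sub_self, Pi.single_zero, add_zero]⟩⟩
  by_cases hm : Mono g'
  · obtain ⟨σ, d, hσd⟩ := hm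
    have hS : g' ∈ specialLinear ι F := hg'def ▸ Subgroup.mul_mem _ (tv_mem_SL _ _ hφl) hgS
    refine fullSub_of_centre hN (by omega) hν (l := l) ⟨hφl, ?_⟩ (fun e => hgm ⟨σ, d, ?_⟩)
    · rw [eq_mul_inv_of_mul_eq hg'def.symm]
      exact M.mul_mem (hσd ▸ hN σ d (hσd ▸ hS)) (M.inv_mem hgM)
    · rw [← hσd, hg'def]
      exact gl_ext_vec fun x => by rw [gl_mul_mulVec, tv_mulVec, e, zero_dotProduct, zero_smul, add_zero]
  refine fullSub_of_modLine (l := l) hN (by omega) hν hν2 ?_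
  obtain ⟨a, hcol⟩ : ∃ a, ∀ k, ∃ j, j ≠ k ∧ (g' : Matrix ι ι F) j a ≠ 0 := by
    by_contra hcon
    push Not at hcon
    exact hm (mono_of_cols hcon)
  have hal : a ≠ l := fun e => by
    obtain ⟨j, hj, hj0⟩ := hcol l
    have := congrFun hg'l j
    rw [mulVec_single_col, Pi.single_eq_of_ne hj] at this
    exact hj0 (e ▸ this)
  have hNl : ∀ (σ : Equiv.Perm ι) (d : ι → Fˣ), σ l = l → (mon σ d : GL ι F) ∈ specialLinear ι F →
      mon σ d ∈ modLine M l := fun σ d => modLine_mon hN σ d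
  set u : ι → F := (g' : Matrix ι ι F) *ᵥ Pi.single a 1 with hu
  set α : ι → F := fun k => ((g'⁻¹ : GL ι F) : Matrix ι ι F) a k with hα
  have hyl : ∀ x, (((g'⁻¹ : GL ι F) : Matrix ι ι F) *ᵥ x) l = x l := by
    intro x
    have h1 := hrow (((g'⁻¹ : GL ι F) : Matrix ι ι F) *ᵥ x)
    rw [gl_mulVec_inv] at h1
    exact h1.symm
  have hul : u l = 0 := by rw [hu, hrow, Pi.single_eq_of_ne hal.symm]
  have hαl : α l = 0 := by
    show ((g'⁻¹ : GL ι F) : Matrix ι ι F) a l = 0
    rw [← mulVec_single_col ((g'⁻¹ : GL ι F) : Matrix ι ι F) l a, ← hg'l, gl_inv_mulVec, Pi.single_eq_of_ne hal]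
  have hRf : Rf (modLine M l) ν l u α := by
    refine ⟨hul, hαl, ?_, g' * tor a l ν * g'⁻¹, (modLine M l).mul_mem ((modLine M l).mul_mem hmem
      (hNl _ _ rfl (tor_mem_SL hal ν))) ((modLine M l).inv_mem hmem), fun x => ?_⟩
    · show (((g'⁻¹ : GL ι F) : Matrix ι ι F) *ᵥ u) a = 1
      rw [hu, gl_inv_mulVec, Pi.single_eq_same]
    · set y := ((g'⁻¹ : GL ι F) : Matrix ι ι F) *ᵥ x with hy
      have h1 : ((tor a l ν : GL ι F) : Matrix ι ι F) *ᵥ y
          = y + ((((ν : F) - 1) * y a) • Pi.single a 1 + (((ν : F)⁻¹ - 1) * y l) • Pi.single l 1) := by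
        funext k
        rw [tor_mulVec hal, Pi.add_apply, Pi.add_apply, Pi.smul_apply, Pi.smul_apply, smul_eq_mul, smul_eq_mul]
        split_ifs with h1 h2
        · subst h1; rw [Pi.single_eq_same, Pi.single_eq_of_ne hal]; ring
        · subst h2; rw [Pi.single_eq_same, Pi.single_eq_of_ne hal.symm]; ring
        · rw [Pi.single_eq_of_ne h1, Pi.single_eq_of_ne h2]; ring
      rw [gl_mul_mulVec, gl_mul_mulVec, ← hy, h1, Matrix.mulVec_add, Matrix.mulVec_add, Matrix.mulVec_smul,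
        Matrix.mulVec_smul, ← hu, hg'l, hy, gl_mulVec_inv, hyl, ← Pi.single_smul, smul_eq_mul, mul_one, ← add_assoc]
      rfl
  obtain ⟨j₁, -, hj₁⟩ := hcol a
  obtain ⟨j₂, hne, hj₂⟩ := hcol j₁
  refine elem_of_refl hNl h5 (by omega) hν hν2 hRf hne ?_ ?_
  · rw [hu, mulVec_single_col]; exact hj₂
  · rw [hu, mulVec_single_col]; exact hj₁

end CfsgLib.Perm.LinDecomp
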