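import Cfsg.Agent.Lib.Perm.LinDecomp.Mon
import Mathlib.GroupTheory.SpecificGroups.Alternating.Simple
import Mathlib.RingTheory.IntegralDomain

/-!
# Conjugates of torus elements and of twisted permutations that are monomial
-/

set_option autoImplicit false
set_option linter.all false

namespace CfsgLib.Perm.LinDecomp

open scoped Matrix
open Matrix Cfsg.Geo CfsgLib.Perm.Asch CfsgLib.Perm.Trans

variable {ι : Type} [Fintype ι] [DecidableEq ι] {F : Type*} [Field F]

theorem exists_nu [Fintype F] (h5 : 5 ≤ Fintype.card F) :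
    ∃ ν : Fˣ, ν ≠ 1 ∧ ν ^ 2 ≠ 1 ∧ ν ^ 3 ≠ 1 := by
  classical
  obtain ⟨ν, hν⟩ := IsCyclic.exists_generator (α := Fˣ)
  have ho : orderOf ν = Fintype.card F - 1 := by
    rw [orderOf_eq_card_of_forall_mem_zpowers hν, Nat.card_eq_fintype_card, Fintype.card_units]
  have key : ∀ i, 0 < i → i < 4 → ν ^ i ≠ 1 := fun i h0 h4 e => by
    have := Nat.le_of_dvd h0 (orderOf_dvd_of_pow_eq_one e)
    omega
  exact ⟨ν, by simpa using key 1 (by omega) (by omega), key 2 (by omega) (by omega),
    key 3 (by omega) (by omega)⟩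

theorem mon_perm_inj {σ τ : Equiv.Perm ι} {d e : ι → Fˣ} (h : (mon σ d : GL ι F) = mon τ e) :
    σ = τ := by
  refine Equiv.ext fun l => ?_
  by_contra hne
  have h1 := congrArg (fun g : GL ι F => (g : Matrix ι ι F) *ᵥ Pi.single l 1) h
  simp only [mon_mulVec_single, mul_one] at h1
  have h2 := congrFun h1 (σ l)
  rw [Pi.single_eq_same, Pi.single_eq_of_ne hne] at h2
  exact (d l).ne_zero h2

theorem mon_d_inj {σ : Equiv.Perm ι} {d e : ι → Fˣ} (h : (mon σ d : GL ι F) = mon σ e) :
    d = e := funext fun l => Units.ext (by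
  have h1 := congrArg (fun g : GL ι F => (g : Matrix ι ι F) *ᵥ Pi.single l 1) h
  simp only [mon_mulVec_single, mul_one] at h1
  simpa using congrFun h1 (σ l))

/-- a monomial conjugate of `diag(ν, ν⁻¹)` is a transposition times a torus element -/
theorem torus_conj_perm {ν : Fˣ} (h2 : ν ^ 2 ≠ 1) (h3 : ν ^ 3 ≠ 1) {g : GL ι F} {p q : ι}
    (hpq : p ≠ q) {σ : Equiv.Perm ι} {d : ι → Fˣ} (hy : g⁻¹ * tor p q ν * g = mon σ d)
    (hcol : ∀ (l : ι) (c : F), (g : Matrix ι ι F) *ᵥ Pi.single l 1 ≠ Pi.single p c) :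
    ∃ a b, a ≠ b ∧ σ = Equiv.swap a b ∧ ∀ l, l ≠ p → l ≠ q → (g : Matrix ι ι F) l a = 0 := by
  classical
  set y : Matrix ι ι F := ((mon σ d : GL ι F) : Matrix ι ι F) with hydef
  set T : Matrix ι ι F := ((tor p q ν : GL ι F) : Matrix ι ι F) with hTdef
  have hgy : ∀ x, (g : Matrix ι ι F) *ᵥ (y *ᵥ x) = T *ᵥ ((g : Matrix ι ι F) *ᵥ x) := by
    intro x
    have h : g * mon σ d = tor p q ν * g := by rw [← hy]; group
    rw [hydef, hTdef, ← gl_mul_mulVec, ← gl_mul_mulVec, h]
  have hν0 : (ν : F) ≠ 0 := ν.ne_zero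
  have hν2 : (ν : F) ^ 2 ≠ 1 := fun e => h2 (Units.ext (by simpa using e))
  have hν1 : (ν : F) ≠ 1 := fun e => hν2 (by rw [e, one_pow])
  have hν3 : (ν : F) ^ 3 ≠ 1 := fun e => h3 (Units.ext (by simpa using e))
  obtain ⟨S, hS⟩ : ∃ S : F, S = 1 + ν + (ν : F)⁻¹ := ⟨_, rfl⟩
  have hS0 : S ≠ 0 := by
    intro e
    rw [hS] at e
    have : (ν : F) ^ 2 + ν + 1 = 0 := by field_simp at e; linear_combination e
    exact hν3 (by linear_combination ((ν : F) - 1) * this)
  have hcubT : ∀ x : ι → F, T *ᵥ (T *ᵥ (T *ᵥ x)) - S • (T *ᵥ (T *ᵥ x)) + S • (T *ᵥ x) - x = 0 := by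
    intro x
    funext k
    simp only [hTdef, Pi.sub_apply, Pi.add_apply, Pi.smul_apply, tor_mulVec hpq, smul_eq_mul,
      Pi.zero_apply, hS]
    split_ifs <;> (field_simp; ring)
  have hcub : ∀ x : ι → F, y *ᵥ (y *ᵥ (y *ᵥ x)) - S • (y *ᵥ (y *ᵥ x)) + S • (y *ᵥ x) - x = 0 := by
    intro x
    apply (gl_mulVec_eq_zero (g := g)).1
    rw [Matrix.mulVec_sub, Matrix.mulVec_add, Matrix.mulVec_sub, Matrix.mulVec_smul,
      Matrix.mulVec_smul, hgy, hgy, hgy]
    exact hcubT _
  -- cycles have length at most two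
  have hcyc : ∀ a, σ a ≠ a → σ (σ a) = a ∧ ((d (σ a) : F) * (d a : F)) = -S ∧ S ^ 2 = 1 := by
    intro a ha
    have h := hcub (Pi.single a 1)
    simp only [hydef, mon_mulVec_single, mul_one, ← Pi.single_smul, smul_eq_mul] at h
    have hb : σ (σ a) ≠ σ a := fun e => ha (σ.injective e)
    by_cases hc : σ (σ a) = a
    · refine ⟨hc, ?_⟩
      simp only [hc] at h
      have ha' := congrFun h a
      have hb' := congrFun h (σ a)
      simp only [Pi.sub_apply, Pi.add_apply, Pi.single_eq_same, Pi.single_eq_of_ne ha,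
        Pi.single_eq_of_ne (Ne.symm ha), Pi.zero_apply] at ha' hb'
      have hb'' : (d (σ a) : F) * (d a : F) = -S :=
        mul_left_cancel₀ (d a).ne_zero (by linear_combination hb')
      refine ⟨hb'', ?_⟩
      rw [hb''] at ha'
      linear_combination ha'
    · exfalso
      by_cases hd : σ (σ (σ a)) = a
      · simp only [hd] at h
        have hb' := congrFun h (σ a)
        simp only [Pi.sub_apply, Pi.add_apply, Pi.single_eq_same, Pi.single_eq_of_ne ha,
          Pi.single_eq_of_ne hb.symm, Pi.zero_apply] at hb'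
        exact mul_ne_zero hS0 (d a).ne_zero (by linear_combination hb')
      · have ha' := congrFun h a
        simp only [Pi.sub_apply, Pi.add_apply, Pi.single_eq_same, Pi.single_eq_of_ne (Ne.symm ha),
          Pi.single_eq_of_ne (Ne.symm hc), Pi.single_eq_of_ne (Ne.symm hd), Pi.zero_apply] at ha'
        exact one_ne_zero (α := F) (by linear_combination -ha')
  -- some point moves
  have hsingle : ∀ x : ι → F, T *ᵥ x = (ν : F) • x → x = Pi.single p (x p) := by
    intro x hx
    funext k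
    by_cases hk : k = p
    · subst hk; rw [Pi.single_eq_same]
    · rw [Pi.single_eq_of_ne hk]
      have h := congrFun hx k
      rw [hTdef, tor_mulVec hpq, if_neg hk, Pi.smul_apply, smul_eq_mul] at h
      by_contra hne
      split_ifs at h with h'
      · have h1 := mul_right_cancel₀ hne h
        exact hν2 (by rw [sq]; nth_rewrite 1 [← h1]; exact inv_mul_cancel₀ hν0)
      · exact hν1 (mul_right_cancel₀ hne h).symm
  obtain ⟨a, ha⟩ : ∃ a, σ a ≠ a := by
    by_contra hcon
    push Not at hcon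
    obtain ⟨l, hl⟩ : ∃ l, (g : Matrix ι ι F) p l ≠ 0 := by
      by_contra h0
      push Not at h0
      have h1 := congrFun (gl_mulVec_inv g (Pi.single p 1)) p
      rw [Pi.single_eq_same, Matrix.mulVec] at h1
      exact one_ne_zero (α := F) (h1.symm.trans (Finset.sum_eq_zero fun j _ => by
        show (g : Matrix ι ι F) p j * _ = 0
        rw [h0 j, zero_mul]))
    set x := (g : Matrix ι ι F) *ᵥ Pi.single l 1 with hx
    have hTx : T *ᵥ x = (d l : F) • x := by
      rw [hx, ← hgy, hydef, mon_mulVec_single, hcon l, mul_one, ← Matrix.mulVec_smul,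
        ← Pi.single_smul, smul_eq_mul, mul_one]
    have hxp : x p ≠ 0 := by rw [hx, mulVec_single_col]; exact hl
    have hdl : (d l : F) = ν := by
      have h := congrFun hTx p
      rw [hTdef, tor_mulVec hpq, if_pos rfl, Pi.smul_apply, smul_eq_mul] at h
      exact (mul_right_cancel₀ hxp h).symm
    rw [hdl] at hTx
    exact hcol l (x p) (hsingle x hTx)
  obtain ⟨hca, -, hS2⟩ := hcyc a ha
  have hνm1 : (ν : F) * ν = -1 := by
    rcases sq_eq_one_iff.1 hS2 with e | e <;> rw [hS] at e
    · field_simp at e; linear_combination e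
    · exfalso
      refine hν2 ?_
      have : (ν : F) ^ 2 + 2 * ν + 1 = 0 := by field_simp at e; linear_combination e
      have h1 : ((ν : F) + 1) * (ν + 1) = 0 := by linear_combination this
      rcases mul_eq_zero.1 h1 with h | h <;> linear_combination ((ν : F) - 1) * h
  have hS1 : S = 1 := by
    rw [hS]
    field_simp
    linear_combination hνm1
  -- the eigenvectors of the two-cycles
  have hvec : ∀ a, σ a ≠ a → ∃ c : F, c ≠ 0 ∧
      (g : Matrix ι ι F) *ᵥ (Pi.single a (ν : F) + Pi.single (σ a) (d a : F)) = Pi.single p c := by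
    intro a ha
    obtain ⟨hc, hdd, -⟩ := hcyc a ha
    set f : ι → F := Pi.single a (ν : F) + Pi.single (σ a) (d a : F) with hf
    have hyf : y *ᵥ f = (ν : F) • f := by
      rw [hf, hydef, Matrix.mulVec_add, mon_mulVec_single, mon_mulVec_single, hc, hdd, hS1,
        smul_add, ← Pi.single_smul, ← Pi.single_smul, smul_eq_mul, smul_eq_mul, hνm1, mul_comm,
        add_comm]
    have hTf : T *ᵥ ((g : Matrix ι ι F) *ᵥ f) = (ν : F) • ((g : Matrix ι ι F) *ᵥ f) := by
      rw [← hgy, hyf, Matrix.mulVec_smul]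
    refine ⟨_, fun h0 => ?_, hsingle _ hTf⟩
    have h1 := hsingle _ hTf
    rw [h0, Pi.single_zero, gl_mulVec_eq_zero] at h1
    have h2 := congrFun h1 a
    rw [hf, Pi.add_apply, Pi.single_eq_same, Pi.single_eq_of_ne (Ne.symm ha), add_zero,
      Pi.zero_apply] at h2
    exact hν0 h2
  have hsupp : ∀ l, l ≠ p → l ≠ q → (g : Matrix ι ι F) l a = 0 := by
    intro l hlp hlq
    have h22 : (2 : F) ≠ 0 := fun e => hν2 (by linear_combination hνm1 + (-1 : F) * e)
    obtain ⟨-, hdd, -⟩ := hcyc a ha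
    rw [hS1] at hdd
    have h1 : T *ᵥ (T *ᵥ ((g : Matrix ι ι F) *ᵥ Pi.single a 1)) = -((g : Matrix ι ι F) *ᵥ Pi.single a 1) := by
      rw [← hgy, ← hgy, hydef, mon_mulVec_single, mul_one, mon_mulVec_single, hca, hdd, Pi.single_neg,
        Matrix.mulVec_neg]
    have h3 := congrFun h1 l
    simp only [hTdef, tor_mulVec hpq, if_neg hlp, if_neg hlq, one_mul, Pi.neg_apply, mulVec_single_col] at h3
    exact (mul_eq_zero.1 (show (2 : F) * (g : Matrix ι ι F) l a = 0 by linear_combination h3)).resolve_left h22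
  refine ⟨a, σ a, Ne.symm ha, Equiv.ext fun x => ?_, hsupp⟩
  by_cases hxa : x = a
  · subst hxa; rw [Equiv.swap_apply_left]
  by_cases hxb : x = σ a
  · subst hxb; rw [Equiv.swap_apply_right, hca]
  rw [Equiv.swap_apply_of_ne_of_ne hxa hxb]
  by_contra hx
  obtain ⟨c, hc0, hc⟩ := hvec a ha
  obtain ⟨c', hc0', hc'⟩ := hvec x hx
  have hxσ : σ x ≠ a := fun e => hxb (by rw [← e]; exact ((hcyc x hx).1).symm)
  have h1 : c' • (Pi.single a (ν : F) + Pi.single (σ a) (d a : F))
      - c • (Pi.single x (ν : F) + Pi.single (σ x) (d x : F) : ι → F) = 0 := by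
    apply (gl_mulVec_eq_zero (g := g)).1
    rw [Matrix.mulVec_sub, Matrix.mulVec_smul, Matrix.mulVec_smul, hc, hc', ← Pi.single_smul,
      ← Pi.single_smul, smul_eq_mul, smul_eq_mul, mul_comm, sub_self]
  have h2 := congrFun h1 a
  simp only [Pi.sub_apply, Pi.smul_apply, Pi.add_apply, Pi.single_eq_same,
    Pi.single_eq_of_ne (Ne.symm ha), Pi.single_eq_of_ne (Ne.symm hxa),
    Pi.single_eq_of_ne (Ne.symm hxσ), Pi.zero_apply, smul_eq_mul, add_zero, mul_zero,
    sub_zero] at h2
  exact mul_ne_zero hc0' hν0 h2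

/-! ### Twisted permutations fixing a vector -/

/-- the monomial permutation fixing the vector `u` -/
def tperm (u : ι → Fˣ) (σ : Equiv.Perm ι) : GL ι F := mon σ fun l => u (σ l) * (u l)⁻¹

theorem tperm_mul (u : ι → Fˣ) (σ τ : Equiv.Perm ι) :
    (tperm u (σ * τ) : GL ι F) = tperm u σ * tperm u τ := by
  rw [tperm, tperm, tperm, mon_mul]
  congr 1
  funext l
  rw [Equiv.Perm.mul_apply]
  group

theorem tperm_mem_SL (u : ι → Fˣ) {σ : Equiv.Perm ι} (hσ : Equiv.Perm.sign σ = 1) :
    (tperm u σ : GL ι F) ∈ specialLinear ι F := by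
  refine mon_mem_SL ?_
  rw [hσ, Units.val_one, Int.cast_one, one_mul, ← Units.coe_prod, Finset.prod_mul_distrib,
    Equiv.prod_comp σ u, Finset.prod_inv_distrib, mul_inv_cancel, Units.val_one]

theorem tperm_fix (u : ι → Fˣ) (σ : Equiv.Perm ι) (x : ι → F)
    (hx : ∀ l, σ l = l ∨ x l = u l) : ((tperm u σ : GL ι F) : Matrix ι ι F) *ᵥ x = x := by
  funext k
  rw [tperm, mon_mulVec, Equiv.apply_symm_apply]
  obtain ⟨l, rfl⟩ := σ.surjective k
  rw [Equiv.symm_apply_apply, Units.val_mul, Units.val_inv_eq_inv_val]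
  rcases hx l with h | h
  · rw [h, mul_inv_cancel₀ (u l).ne_zero, one_mul]
  · rcases hx (σ l) with h' | h'
    · rw [σ.injective h', mul_inv_cancel₀ (u l).ne_zero, one_mul]
    · rw [h, h', mul_assoc, inv_mul_cancel₀ (u l).ne_zero, mul_one]

/-- an alternating group has no small non-trivial permutation representations -/
theorem alt_hom_trivial {A B : Type} [Fintype A] [DecidableEq A] [Fintype B]
    (h5 : 5 ≤ Fintype.card A) (hlt : Fintype.card B < Fintype.card A)
    (φ : alternatingGroup A →* Equiv.Perm B) : φ = 1 := by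
  haveI : IsSimpleGroup (alternatingGroup A) :=
    alternatingGroup.isSimpleGroup (by rwa [Nat.card_eq_fintype_card])
  haveI : Nontrivial A := Fintype.one_lt_card_iff_nontrivial.1 (by omega)
  rcases φ.normal_ker.eq_bot_or_eq_top with h | h
  · exfalso
    have h1 := Nat.card_le_card_of_injective φ ((MonoidHom.ker_eq_bot_iff φ).1 h)
    have h2 := two_mul_nat_card_alternatingGroup (α := A)
    classical
    rw [Nat.card_perm, Nat.card_eq_fintype_card] at h1 h2
    rw [Nat.card_eq_fintype_card] at h2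
    rw [Nat.card_eq_fintype_card (α := B)] at h1
    obtain ⟨k, hk⟩ : ∃ k, Fintype.card A = k + 1 := ⟨Fintype.card A - 1, by omega⟩
    have h3 : (Fintype.card B).factorial ≤ k.factorial := Nat.factorial_le (by omega)
    rw [hk, Nat.factorial_succ] at h2
    have h4 : 3 * k.factorial ≤ (k + 1) * k.factorial := Nat.mul_le_mul_right _ (by omega)
    have h5' := Nat.factorial_pos k
    omega
  · exact MonoidHom.ext fun a => MonoidHom.mem_ker.1 (h ▸ Subgroup.mem_top a)

theorem alt_not_comm {A : Type} [Fintype A] [DecidableEq A] (h5 : 5 ≤ Fintype.card A) :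
    ∃ a b : alternatingGroup A, a * b ≠ b * a := by
  haveI : IsSimpleGroup (alternatingGroup A) :=
    alternatingGroup.isSimpleGroup (by rwa [Nat.card_eq_fintype_card])
  haveI : Nontrivial A := Fintype.one_lt_card_iff_nontrivial.1 (by omega)
  by_contra hcon
  push Not at hcon
  letI : CommGroup (alternatingGroup A) :=
    { (inferInstance : Group (alternatingGroup A)) with mul_comm := hcon }
  have hp := IsSimpleGroup.prime_card (α := alternatingGroup A)
  rw [nat_card_alternatingGroup, Nat.card_eq_fintype_card] at hp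
  obtain ⟨k, hk⟩ : ∃ k, Fintype.card A = k + 5 := ⟨Fintype.card A - 5, by omega⟩
  rw [hk] at hp
  have hd : 60 ∣ (k + 5).factorial / 2 := by
    refine Nat.dvd_div_of_mul_dvd ?_
    exact Nat.dvd_trans (by decide : 2 * 60 ∣ (5).factorial) (Nat.factorial_dvd_factorial (by omega))
  have h6 : 2 ∣ (k + 5).factorial / 2 := Nat.dvd_trans (by decide) hd
  have h7 := (Nat.prime_dvd_prime_iff_eq Nat.prime_two hp).1 h6
  rw [← h7] at hd
  exact absurd (Nat.le_of_dvd (by omega) hd) (by omega)

end CfsgLib.Perm.LinDecomp
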